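import Cfsg.Agent.SB.Cl.Cent_m3
import Cfsg.Agent.DS.Cl.Main
import Cfsg.Agent.SB.Tor.Refl_m3
import Cfsg.Agent.FastGrp
import Cfsg.Agent.Prune
set_option linter.all false

section
prune_inst 0x7ff1fcf99bb8fddfffff7e7fa6dacffc39925fffe6dff94bbfe021ef0bdf03000dc52bad0de000fe1e82401490b87853f97ecfffe26bdc7ffffd5ff41ffbee1fb7efb50951d588340fbc6ff693f0778e7f3fffffffffffffffffffffffffffbeffbdffffffff

-- part: SB/C2/ExtB
section
prune_inst 0x200040000000000018000200000000000000000000040008010640020250200d002001440008044a00000000000008100000000000000000000400000004010080000000000d04000006000006000000000000000000000000000000041000200000000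
set_option linter.all false
open scoped Cfsg.Agent.FastGrp

-- part: SB/C2/Sty
section
/-!
# Groups of symplectic type with a solvable automorphism group (helper56)
-/

set_option autoImplicit false

namespace Cfsg.Agent.SB.C2

open Cfsg Cfsg.Agent.DS.Cl.Ext Cfsg.Agent.LieClassical
open scoped commutatorElement

variable {H : Type} [Group H] [Finite H] {U : Subgroup H} {r : ℕ}

omit [Finite H] in
theorem index_eq {V : Type} [AddCommGroup V] {π : H → V} (hπ : Pr U π) : U.index = Nat.card V := by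
  let f : H →* Multiplicative V := MonoidHom.mk' (fun x => Multiplicative.ofAdd (π x)) fun x y => by
    rw [hπ.mul, ofAdd_add]
  have h1 : f.ker = U := Subgroup.ext fun x => hπ.ker x
  rw [← h1, Subgroup.index_ker, MonoidHom.range_eq_top_of_surjective f hπ.surj, Subgroup.card_top]
  rfl

theorem pow_of_nd (h : Sty U r) (hQ : ¬ (r = 2 ∧ ¬ 4 ∣ Nat.card U))
    (hnd : ∀ K : Subgroup H, (∀ x, x ∈ K ↔ x ^ Nat.card U = 1) → ∀ x ∈ K, (∀ y ∈ K, x * y = y * x) → x ∈ U) (x : H) :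
    ∃ c ∈ U, x ^ r = c ^ r := by
  have : Fact r.Prime := ⟨h.prime⟩
  obtain ⟨m, hm⟩ : r ∣ Nat.card U := by
    rw [← h.card_W]
    exact Subgroup.card_dvd_of_le fun c hc => hc.1
  have hU : ∀ c ∈ U, c ^ Nat.card U = 1 := fun c hc => congrArg Subtype.val (pow_card_eq_one' (x := (⟨c, hc⟩ : U)))
  have h1 : ∀ x, x ^ Nat.card U ∈ h.W := fun x =>
    ⟨by rw [hm, pow_mul]; exact U.pow_mem (h.pow x) m, by rw [← pow_mul, mul_comm, pow_mul, hU _ (h.pow x)]⟩
  have h2 : ∀ x y : H, (x * y) ^ Nat.card U = x ^ Nat.card U * y ^ Nat.card U := by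
    intro x y
    obtain ⟨c, hc, e⟩ := h.mul_pow_mod hQ x y
    rw [hm, pow_mul, pow_mul, pow_mul, e, h.mul_pow_of_mem _ (U.pow_mem hc r), h.mul_pow_of_mem _ (h.pow y), ← pow_mul c,
      ← hm, hU c hc, mul_one]
  obtain ⟨V, _, _, _, π, hπ⟩ := h.exists_pr
  obtain ⟨lg, hl, hl'⟩ := h.exists_log
  obtain ⟨B, hB⟩ := h.exists_form hπ hl
  have h0 := h.lg_one hl
  choose s hs using hπ.surj
  have h3 : ∀ x y, π x = π y → x ^ Nat.card U = y ^ Nat.card U := by
    intro x y e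
    obtain ⟨c, hc, rfl⟩ := hπ.exists_of_eq e
    rw [h2, hU c hc, mul_one]
  let f : V →ₗ[ZMod r] ZMod r := (AddMonoidHom.mk' (fun v => lg (s v ^ Nat.card U)) fun v w => by
    rw [← hl _ (h1 _) _ (h1 _), ← h2, h3 (s (v + w)) (s v * s w) (by rw [hπ.mul, hs, hs, hs])]).toZModLinearMap r
  have hf : ∀ x, f (π x) = lg (x ^ Nat.card U) := fun x => congrArg lg (h3 _ _ (hs _))
  have hA : ∀ v, B v v = 0 := fun v => by rw [← hs v, hB, commutatorElement_self, h0]
  have hnd' : B.Nondegenerate := (LinearMap.IsAlt.isRefl hA).nondegenerate_iff_separatingLeft.2 (h.form_nd hπ hl hl' hB)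
  obtain ⟨v, hv⟩ := (B.toDual hnd').surjective f
  have h4 : ∀ y, lg ⁅s v, y⁆ = lg (y ^ Nat.card U) := fun y => by rw [← hB, hs, ← hf, ← hv]; rfl
  have h5 : s v ∈ U := hnd (MonoidHom.mk' (fun x => x ^ Nat.card U) h2).ker (fun _ => Iff.rfl) _
    (hl' _ (h1 _) _ h.W.one_mem (by rw [← h4, commutatorElement_self])) fun y hy =>
      commutatorElement_eq_one_iff_mul_comm.1 (hl' _ (h.comm_mem_W _ _) _ h.W.one_mem (by
        rw [h4, show y ^ Nat.card U = 1 from hy]))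
  have h6 : x ^ Nat.card U = 1 := hl' _ (h1 _) _ h.W.one_mem (by rw [← h4, h.comm_eq_one_left h5])
  have := h.cyc
  obtain ⟨g, hg⟩ := IsCyclic.exists_monoid_generator (α := U)
  obtain ⟨a, ha⟩ := hg ⟨_, h.pow x⟩
  have h7 : orderOf g = Nat.card U := orderOf_eq_card_of_forall_mem_powers hg
  have h8 : (g : H) ^ a = x ^ r := congrArg Subtype.val ha
  have h9 : Nat.card U ∣ a * m := by
    rw [← h7]
    refine orderOf_dvd_of_pow_eq_one (Subtype.ext ?_)
    rw [Subgroup.coe_pow, pow_mul, h8, ← pow_mul, ← hm, h6]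
    rfl
  have hm0 : 0 < m := Nat.pos_of_ne_zero fun e => Nat.card_pos.ne' (by rw [hm, e, mul_zero])
  rw [hm] at h9
  obtain ⟨j, rfl⟩ := Nat.dvd_of_mul_dvd_mul_right hm0 h9
  exact ⟨g ^ j, U.pow_mem g.2 j, by rw [← h8, ← pow_mul, mul_comm]⟩

/-- the symplectic case -/
theorem solv_sty_sp (h : Sty U r) (hT : ∀ x, ∃ c ∈ U, x ^ r = c ^ r) (hs : Group.IsSolvable (DS.Cl.Ext.Fix U)) :
    U.index = r ^ 2 ∧ r ≤ 3 := by
  have : Fact r.Prime := ⟨h.prime⟩
  obtain ⟨V, _, _, _, π, hπ⟩ := h.exists_pr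
  obtain ⟨lg, hl, hl'⟩ := h.exists_log
  obtain ⟨B, hB⟩ := h.exists_form hπ hl
  obtain ⟨ρ, hρ⟩ := Sty.exists_rho (r := r) hπ
  have hr : (DS.Cl.Vec.Isom (ZMod r) fun v w => B v w) ≤ ρ.range := by
    intro α hα
    obtain ⟨φ, hφ, hφ'⟩ := h.exists_lift hπ α.toAddEquiv (fun x y x' y' hx hy => by
      refine hl' _ (h.comm_mem_W _ _) _ (h.comm_mem_W _ _) ?_
      rw [← hB, ← hB, hx, hy]
      exact hα _ _) (fun x x' _ => by
      obtain ⟨c, hc, e⟩ := hT x
      obtain ⟨c', hc', e'⟩ := hT x'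
      refine ⟨c⁻¹ * c', U.mul_mem (U.inv_mem hc) hc', ?_⟩
      rw [e, e', h.mul_pow_of_mem _ hc', inv_pow, mul_inv_cancel_left])
    refine ⟨⟨φ, hφ⟩, ?_⟩
    ext v
    obtain ⟨x, rfl⟩ := hπ.surj v
    rw [hρ]
    exact hφ' x
  have h1 : Group.IsSolvable ρ.range := Group.isSolvable_of_surjective ρ.rangeRestrict_surjective
  have h2 := solv_alt B (fun v => by
    obtain ⟨x, rfl⟩ := hπ.surj v
    rw [hB, commutatorElement_self, h.lg_one hl]) (h.form_nd hπ hl hl' hB)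
    (Group.isSolvable_of_isSolvable_injective (f := Subgroup.inclusion hr) (Subgroup.inclusion_injective _))
  rw [index_eq hπ, Module.natCard_eq_pow_finrank (K := ZMod r), Nat.card_zmod]
  rw [ZMod.card] at h2
  rcases h2 with h2 | ⟨h2, h3⟩
  · obtain ⟨x, hx⟩ := h.ne
    have : Subsingleton V := Module.finrank_zero_iff.1 h2
    exact absurd ((hπ.ker x).1 (Subsingleton.elim _ _)) hx
  · exact ⟨by rw [h2], h3⟩

omit [Finite H] in
/-- non-singular elements -/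
def NS (U : Subgroup H) (x : H) : Prop := ∀ c ∈ U, (x * c) ^ 2 ≠ 1

omit [Finite H] in
/-- one of the two quaternion factors -/
structure Pl (U P P' : Subgroup H) : Prop where
  le : U ≤ P
  comm : ∀ x ∈ P, ∀ y ∈ P', x * y = y * x
  prod : ∀ x, ∃ y ∈ P, y⁻¹ * x ∈ P'
  ns : ∀ x ∈ P, x ∉ U → NS U x
  mem : ∀ x, NS U x → x ∈ P ∨ x ∈ P'
  card : U.relIndex P = 4
  two : ∀ x ∈ P, ∃ y ∈ P, y ∉ U ∧ y⁻¹ * x ∉ U
  cm : ∀ x ∈ P, ∀ y ∈ P, x ∉ U → y ∉ U → x * y = y * x → x⁻¹ * y ∈ U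

/-- the first plane -/
def pl₁ : AddSubgroup (Fin 2 ⊕ Fin 2 → ZMod 2) where
  carrier := {v | v (.inl 1) = v (.inr 1) ∧ v (.inl 0) + v (.inr 0) = v (.inl 1)}
  add_mem' := fun {a b} ha hb => ⟨by simp [ha.1, hb.1], by simp only [Pi.add_apply, ← ha.2, ← hb.2]; ring⟩
  zero_mem' := ⟨rfl, rfl⟩
  neg_mem' := fun {a} ha => ⟨by simp [ha.1], by simp only [Pi.neg_apply, ← ha.2]; ring⟩

/-- the second plane -/
def pl₂ : AddSubgroup (Fin 2 ⊕ Fin 2 → ZMod 2) where
  carrier := {v | v (.inl 0) = v (.inr 0) ∧ v (.inl 1) + v (.inr 1) = v (.inl 0)}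
  add_mem' := fun {a b} ha hb => ⟨by simp [ha.1, hb.1], by simp only [Pi.add_apply, ← ha.2, ← hb.2]; ring⟩
  zero_mem' := ⟨rfl, rfl⟩
  neg_mem' := fun {a} ha => ⟨by simp [ha.1], by simp only [Pi.neg_apply, ← ha.2]; ring⟩

/-- the properties of the planes -/
def PlV (p p' : (Fin 2 ⊕ Fin 2 → ZMod 2) → Prop) [DecidablePred p] : Prop :=
  (∀ v, p v → ∀ w, p' w → quadFormPlus 2 _ (v + w) - quadFormPlus 2 _ v - quadFormPlus 2 _ w = 0) ∧
  (∀ v, ∃ w, p w ∧ p' (-w + v)) ∧ (∀ v, p v → v ≠ 0 → quadFormPlus 2 _ v ≠ 0) ∧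
  (∀ v, quadFormPlus 2 _ v ≠ 0 → p v ∨ p' v) ∧ Fintype.card {v // p v} = 4 ∧
  (∀ v, p v → ∃ w, p w ∧ w ≠ 0 ∧ -w + v ≠ 0) ∧
  ∀ v, p v → ∀ w, p w → v ≠ 0 → w ≠ 0 → quadFormPlus 2 _ (v + w) - quadFormPlus 2 _ v - quadFormPlus 2 _ w = 0 →
    -v + w = 0

set_option synthInstance.maxSize 1000 in
set_option synthInstance.maxHeartbeats 200000 in
theorem plV₁ : PlV (fun v => v (.inl 1) = v (.inr 1) ∧ v (.inl 0) + v (.inr 0) = v (.inl 1))
    fun v => v (.inl 0) = v (.inr 0) ∧ v (.inl 1) + v (.inr 1) = v (.inl 0) := by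
  unfold PlV quadFormPlus
  refine ⟨?_, ?_, ?_, ?_, ?_, ?_, ?_⟩ <;> beta_reduce <;> decide +kernel

set_option synthInstance.maxSize 1000 in
set_option synthInstance.maxHeartbeats 200000 in
theorem plV₂ : PlV (fun v => v (.inl 0) = v (.inr 0) ∧ v (.inl 1) + v (.inr 1) = v (.inl 0))
    fun v => v (.inl 1) = v (.inr 1) ∧ v (.inl 0) + v (.inr 0) = v (.inl 1) := by
  unfold PlV quadFormPlus
  refine ⟨?_, ?_, ?_, ?_, ?_, ?_, ?_⟩ <;> beta_reduce <;> decide +kernel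

/-- the orthogonal case -/
theorem solv_sty_o (h : Sty U 2) (h4 : ¬ 4 ∣ Nat.card U) (hsv : Group.IsSolvable (DS.Cl.Ext.Fix U)) :
    U.index ≤ 4 ∨ (U.index = 16 ∧ (∀ x, ∃ c ∈ U, ((x * c) ^ 2) ^ 2 = 1) ∧ ∃ P P', Pl U P P' ∧ Pl U P' P) := by
  obtain ⟨V, _, _, _, π, hπ⟩ := h.exists_pr
  obtain ⟨lg, hl, hl'⟩ := h.exists_log
  obtain ⟨B, hB⟩ := h.exists_form hπ hl
  obtain ⟨ρ, hρ⟩ := Sty.exists_rho (r := 2) hπ
  obtain ⟨m, hm⟩ : 2 ∣ Nat.card U := by
    rw [← h.card_W]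
    exact Subgroup.card_dvd_of_le fun c hc => hc.1
  obtain ⟨j, hj⟩ : Odd m := by
    rw [← Nat.not_even_iff_odd]
    rintro ⟨j, rfl⟩
    exact h4 ⟨j, by omega⟩
  have hW : ∀ c ∈ U, c ^ m ∈ h.W := by
    intro c hc
    refine ⟨U.pow_mem hc m, ?_⟩
    rw [← pow_mul, mul_comm, ← hm]
    exact congrArg Subtype.val (pow_card_eq_one' (x := (⟨c, hc⟩ : U)))
  have hWm : ∀ w ∈ h.W, w ^ m = w := by
    intro w hw
    rw [hj, pow_succ, pow_mul, hw.2, one_pow, one_mul]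
  have hq1 : ∀ x y, π x = π y → (x ^ 2) ^ m = (y ^ 2) ^ m := by
    intro x y hxy
    obtain ⟨c, hc, rfl⟩ := hπ.exists_of_eq hxy
    rw [h.mul_pow_of_mem _ hc, h.mul_pow_of_mem _ (U.pow_mem hc 2), ← pow_mul c, mul_comm 2, pow_mul c, (hW c hc).2,
      mul_one]
  have hq2 : ∀ x y, lg (((x * y) ^ 2) ^ m) = lg ((x ^ 2) ^ m) + lg ((y ^ 2) ^ m) + lg ⁅y, x⁆ := by
    intro x y
    rw [h.mul_pow, Nat.choose_self, pow_one, h.mul_pow_of_mem _ (h.comm y x), h.mul_pow_of_mem _ (h.pow y),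
      hWm _ (h.comm_mem_W y x), hl _ (h.W.mul_mem (hW _ (h.pow x)) (hW _ (h.pow y))) _ (h.comm_mem_W y x),
      hl _ (hW _ (h.pow x)) _ (hW _ (h.pow y))]
  choose s hs using hπ.surj
  have hs0 : lg ((s 0 ^ 2) ^ m) = 0 := by
    rw [hq1 (s 0) 1 (by rw [hs, hπ.one]), one_pow, one_pow, h.lg_one hl]
  let Q : QuadraticForm (ZMod 2) V :=
    { toFun := fun v => lg ((s v ^ 2) ^ m)
      toFun_smul := fun a v => by
        have ha : a = 0 ∨ a = 1 := by revert a; decide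
        rcases ha with rfl | rfl
        · rw [zero_smul, hs0, zero_mul, zero_smul]
        · rw [one_smul, one_mul, one_smul]
      exists_companion' := ⟨B.flip, fun v w => by
        rw [hq1 (s (v + w)) (s v * s w) (by rw [hπ.mul, hs, hs, hs]), hq2, ← hB, hs, hs]
        rfl⟩ }
  have hQ : ∀ x, Q (π x) = lg ((x ^ 2) ^ m) := fun x => congrArg lg (hq1 _ _ (hs _))
  have hpol : ∀ x y, QuadraticMap.polar Q (π x) (π y) = lg ⁅y, x⁆ := by
    intro x y
    rw [QuadraticMap.polar, ← hπ.mul, hQ, hQ, hQ, hq2]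
    ring
  have hr : OrthCore.O Q ≤ ρ.range := by
    intro α hα
    obtain ⟨φ, hφ, hφ'⟩ := h.exists_lift hπ α.toAddEquiv (fun x y x' y' hx hy => by
      refine hl' _ (h.comm_mem_W _ _) _ (h.comm_mem_W _ _) ?_
      rw [← hpol, ← hpol, hx, hy]
      exact OrthCore.polar_map hα _ _) (fun x x' hx => by
      have e : (x' ^ 2) ^ m = (x ^ 2) ^ m := by
        refine hl' _ (hW _ (h.pow _)) _ (hW _ (h.pow _)) ?_
        rw [← hQ, ← hQ, hx]
        exact hα _
      have hd : (x ^ 2)⁻¹ * x' ^ 2 ∈ U := U.mul_mem (U.inv_mem (h.pow x)) (h.pow x')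
      have e2 : ((x ^ 2)⁻¹ * x' ^ 2) ^ m = 1 := by
        rw [h.mul_pow_of_mem _ (h.pow x'), inv_pow, e, inv_mul_cancel]
      refine ⟨((x ^ 2)⁻¹ * x' ^ 2) ^ (j + 1), U.pow_mem hd _, ?_⟩
      rw [← pow_mul, show (j + 1) * 2 = m + 1 by (clear * - hj; omega), pow_succ _ m, e2, one_mul, mul_inv_cancel_left])
    refine ⟨⟨φ, hφ⟩, ?_⟩
    ext v
    obtain ⟨x, rfl⟩ := hπ.surj v
    rw [hρ]
    exact hφ' x
  have hcm : ∀ x y, QuadraticMap.polar Q (π x) (π y) = 0 ↔ x * y = y * x := fun x y => by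
    rw [hpol, eq_comm (a := x * y), ← commutatorElement_eq_one_iff_mul_comm]
    exact ⟨fun e => hl' _ (h.comm_mem_W y x) _ h.W.one_mem (e.trans (h.lg_one hl).symm), fun e => by
      rw [e, h.lg_one hl]⟩
  have h1 : Group.IsSolvable ρ.range := Group.isSolvable_of_surjective ρ.rangeRestrict_surjective
  have h2 := solv_O Q (fun v hv => by
    obtain ⟨x, rfl⟩ := hπ.surj v
    exact (hπ.ker x).2 (h.nd x fun y => (hcm x y).1 (hv _)))
    (Group.isSolvable_of_isSolvable_injective (f := Subgroup.inclusion hr) (Subgroup.inclusion_injective _))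
  rw [index_eq hπ, Module.natCard_eq_pow_finrank (K := ZMod 2), Nat.card_zmod]
  rw [ZMod.card] at h2
  rcases h2 with h2 | ⟨-, h2⟩ | ⟨h2, -, g, hg⟩
  · exact Or.inl (Nat.pow_le_pow_right (n := 2) two_pos h2)
  · omega
  have h5 : ∀ x, (x * (x ^ 2) ^ j) ^ 2 = (x ^ 2) ^ m := fun x => by
    rw [h.mul_pow_of_mem _ (U.pow_mem (h.pow x) j), hj, ← pow_mul (x ^ 2), mul_comm j, pow_succ' (x ^ 2)]
  have hns : ∀ x, NS U x ↔ quadFormPlus 2 _ (g (π x)) ≠ 0 := by
    intro x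
    rw [← hg]
    refine ⟨fun h6 e => h6 _ (U.pow_mem (h.pow x) j) ?_, fun h6 c hc e => h6 ?_⟩
    · rw [h5]
      exact hl' _ (hW _ (h.pow x)) _ h.W.one_mem (by rw [← hQ, e, h.lg_one hl])
    · rw [← hπ.mul_mem x hc, hQ, e, one_pow, h.lg_one hl]
  let f : H →* Multiplicative (Fin 2 ⊕ Fin 2 → ZMod 2) := MonoidHom.mk' (fun x => Multiplicative.ofAdd (g (π x)))
    fun x y => by rw [hπ.mul, map_add, ofAdd_add]
  have hf : Function.Surjective f := g.surjective.comp hπ.surj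
  have h0 : ∀ x, g (π x) = 0 ↔ x ∈ U := fun x => by rw [g.map_eq_zero_iff, hπ.ker]
  have hfk : f.ker = U := Subgroup.ext h0
  have h6 : ∀ x y, g (π (x⁻¹ * y)) = -g (π x) + g (π y) := fun x y => by rw [hπ.mul, hπ.inv, map_add, map_neg]
  have h7 : ∀ x y, quadFormPlus 2 _ (g (π x) + g (π y)) - quadFormPlus 2 _ (g (π x)) - quadFormPlus 2 _ (g (π y)) = 0 ↔
      x * y = y * x := fun x y => by rw [← map_add, ← hg, ← hg, ← hg, ← hcm]; rfl
  have key : ∀ (p p' : AddSubgroup (Fin 2 ⊕ Fin 2 → ZMod 2)) [DecidablePred (· ∈ p)], PlV (· ∈ p) (· ∈ p') →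
      Pl U (p.toSubgroup.comap f) (p'.toSubgroup.comap f) := by
    rintro p p' _ ⟨a1, a2, a3, a4, a5, a6, a7⟩
    refine ⟨fun x hx => ?_, fun x hx y hy => (h7 x y).1 (a1 _ hx _ hy), fun x => ?_,
      fun x hx hx' => (hns x).2 (a3 _ hx (mt (h0 x).1 hx')), fun x hx => a4 _ ((hns x).1 hx), ?_, fun x hx => ?_,
      fun x hx y hy hx' hy' e => (h0 _).1 ?_⟩
    · show g (π x) ∈ p
      rw [(h0 x).2 hx]
      exact zero_mem _
    · obtain ⟨w, h8, h9⟩ := a2 (g (π x))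
      obtain ⟨y, rfl⟩ := (g.surjective.comp hπ.surj) w
      exact ⟨y, h8, show g (π _) ∈ p' by rw [h6]; exact h9⟩
    · rw [← hfk, Subgroup.relIndex_ker, Subgroup.map_comap_eq_self_of_surjective hf, ← a5, ← Nat.card_eq_fintype_card]
      rfl
    · obtain ⟨w, h8, h9, h10⟩ := a6 _ hx
      obtain ⟨y, rfl⟩ := (g.surjective.comp hπ.surj) w
      exact ⟨y, h8, mt (h0 y).2 h9, mt (h0 _).2 (by rw [h6]; exact h10)⟩
    · rw [h6]
      exact a7 _ hx _ hy (mt (h0 x).1 hx') (mt (h0 y).1 hy') ((h7 x y).2 e)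
  refine Or.inr ⟨by rw [h2]; rfl, fun x => ⟨_, U.pow_mem (h.pow x) j, ?_⟩, _, _,
    @key pl₁ pl₂ (fun _ => instDecidableAnd) plV₁, @key pl₂ pl₁ (fun _ => instDecidableAnd) plV₂⟩
  rw [h5]
  exact (hW _ (h.pow x)).2

end Cfsg.Agent.SB.C2
end

-- part: SB/C2/ExtB
section
/-!
# Invariant abelian subgroups with non-commuting lifts, II (helper56)
-/

set_option autoImplicit false

namespace Cfsg.Agent.SB.C2

open Cfsg Cfsg.Agent.DS.Cl Cfsg.Agent.DS.Cl.Ext
open scoped commutatorElement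

section grp

variable {H : Type} [Group H] {U P P' : Subgroup H} (h1 : Pl U P P') (h2 : Pl U P' P)
include h1 h2

theorem Pl.map_le (φ : MulAut H) (hφ : ∀ x, φ x ∈ U ↔ x ∈ U) : (∀ x ∈ P, φ x ∈ P) ∨ ∀ x ∈ P, φ x ∈ P' := by
  by_contra hcon
  push Not at hcon
  obtain ⟨⟨x, hx, h3⟩, y, hy, h4⟩ := hcon
  have h5 : ∀ x, NS U x → NS U (φ x) := fun x hx c hc e => by
    obtain ⟨c, rfl⟩ := φ.surjective c
    refine hx c ((hφ c).1 hc) (φ.injective ?_)
    rw [map_pow, map_mul, e, map_one]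
  have h6 : x ∉ U := fun e => h3 (h1.le ((hφ x).2 e))
  have h7 : y ∉ U := fun e => h4 (h2.le ((hφ y).2 e))
  have h8 := (h1.mem _ (h5 x (h1.ns x hx h6))).resolve_left h3
  have h9 := (h1.mem _ (h5 y (h1.ns y hy h7))).resolve_right h4
  have h10 := h1.cm x hx y hy h6 h7 (φ.injective (by rw [map_mul, map_mul, h1.comm _ h9 _ h8]))
  have h11 := mul_mem h8 (h2.le ((hφ _).2 h10))
  rw [← map_mul, mul_inv_cancel_left] at h11
  exact h4 h11

theorem Pl.perm (φ : MulAut H) (hφ : ∀ x, φ x ∈ U ↔ x ∈ U) : (∀ x ∈ P', φ x ∈ P') ∨ ∀ x ∈ P, φ x ∈ P' := by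
  refine (h1.map_le h2 φ hφ).elim (fun h3 => (h2.map_le h1 φ hφ).elim Or.inl fun h4 => ?_) Or.inr
  obtain ⟨y, hy, h5, -⟩ := h2.two 1 (one_mem _)
  obtain ⟨x, hx, h6, h7⟩ := h2.two y hy
  refine absurd (h2.cm x hx y hy h6 h5 (h1.comm x ?_ y hy)) h7
  obtain ⟨x, rfl⟩ := φ.surjective x
  obtain ⟨z, h8, h9⟩ := h1.prod x
  rw [← mul_inv_cancel_left z x, map_mul]
  exact mul_mem (h3 z h8) (h4 _ h9)

end grp

variable {A : Type} [Ring A] [StarRing A] {F : FR A} {S Y : Subgroup (RingAut A)}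

variable (F Y) in
/-- the map to the automorphism group -/
def io : Nh F Y →* RingAut A := (cj A).comp (Nh F Y).subtype

theorem io_ker : (io F Y).ker = Uh F Y := Subgroup.ext fun _ => DS.Cl.cj_eq_one_iff

theorem io_range (hY : Y ≤ F.PI) : (io F Y).range = Y := by
  refine le_antisymm (by rintro _ ⟨u, rfl⟩; exact u.2.1) fun y hy => ?_
  obtain ⟨u, hu, rfl⟩ := hY hy
  exact ⟨⟨u, hy, hu⟩, rfl⟩

theorem io_le (P : Subgroup (Nh F Y)) : P.map (io F Y) ≤ Y := by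
  rintro _ ⟨u, -, rfl⟩
  exact u.2.1

theorem mem_of_io {P : Subgroup (Nh F Y)} (hU : Uh F Y ≤ P) {u : Nh F Y} (h : io F Y u ∈ P.map (io F Y)) : u ∈ P := by
  rwa [← Subgroup.mem_comap, Subgroup.comap_map_eq, io_ker, sup_eq_left.2 hU] at h

variable (F) in
/-- the derived group of the centralizer of the lifts -/
def DC (Q : Subgroup (RingAut A)) : Subgroup (RingAut A) :=
  (⁅F.Iso ⊓ CU (lifts F Q), F.Iso ⊓ CU (lifts F Q)⁆ : Subgroup Aˣ).map (cj A)

theorem DC_le (Q : Subgroup (RingAut A)) : DC F Q ≤ F.S :=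
  Subgroup.map_mono (Subgroup.commutator_mono inf_le_left inf_le_left)

theorem mem_DC {Q : Subgroup (RingAut A)} (hQ : Q ≤ F.PI) {t : RingAut A} (ht : t ∈ DC F Q) :
    ∃ u : Aˣ, (u : A) ∈ fixR Q ∧ ((u⁻¹ : Aˣ) : A) ∈ fixR Q ∧ cj A u = t := by
  obtain ⟨u, hu, rfl⟩ := ht
  have h1 := (Subgroup.commutator_le_self _ hu).2
  exact ⟨u, (mem_CU_lifts hQ).1 h1, (mem_CU_lifts hQ).1 (inv_mem h1), rfl⟩

theorem conj_DC {Q Q' : Subgroup (RingAut A)} (hQ : Q ≤ F.PI) (hQ' : Q' ≤ F.PI) {s : RingAut A} (hs : s ∈ F.Aut)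
    (h : ∀ y ∈ Q, s⁻¹ * y * s⁻¹⁻¹ ∈ Q') : ∀ t ∈ DC F Q', s * t * s⁻¹ ∈ DC F Q := by
  rintro _ ⟨u, hu, rfl⟩
  refine ⟨um s u, ?_, (DS.Cl.conj_cj s u).symm⟩
  have h3 : (F.Iso ⊓ CU (lifts F Q')).map (um s) ≤ F.Iso ⊓ CU (lifts F Q) := by
    rintro _ ⟨v, hv, rfl⟩
    refine ⟨FR.um_mem_Iso hs hv.1, (mem_CU_lifts hQ).2 fun g hg => ?_⟩
    have h4 := congrArg s ((mem_CU_lifts hQ').1 hv.2 _ (h g hg))
    rwa [inv_inv, ra_mul, ra_mul, ra_apply_inv] at h4
  exact Subgroup.commutator_mono h3 h3 (by rw [← Subgroup.map_commutator]; exact ⟨u, hu, rfl⟩)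

theorem sq_eq_neg (hA : SS A) {z : A} (hz : z ∈ Subring.center A) (hs : z * star z = 1) (h1 : z * z = 1) (h2 : z ≠ 1) :
    z = -1 := by
  have h3 : (z - 1) * (z + 1) = 0 := by rw [sub_mul, mul_add, h1, mul_one, one_mul, add_comm, sub_self]
  exact eq_neg_of_add_eq_zero_left ((isUnit_sub_one hA hz hs h2).mul_right_eq_zero.1 h3)

variable [Finite A]

section four

variable {P P' : Subgroup (Nh F Y)} (hA : SS A) (hY : ND F Y) (h1 : Pl (Uh F Y) P P') (h2 : Pl (Uh F Y) P' P)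
include hY h1

omit [Finite A] in
theorem Pl.nd : ND F (P.map (io F Y)) := by
  refine ⟨(io_le P).trans hY.le, fun x hx y hy => hY.comm x (io_le P hx) y (io_le P hy),
    cast_ne_of_dvd (Subgroup.card_dvd_of_le (io_le P)) hY.card, ?_⟩
  rintro _ ⟨x, hx, rfl⟩ h3
  by_contra h4
  obtain ⟨y, hy, h5, h6⟩ := h1.two x hx
  refine h6 (h1.cm y hy x hx h5 (fun e => h4 (DS.Cl.cj_eq_one_iff.2 e)) (Subtype.ext (Units.ext ?_)))
  have h7 := cj_mul_eq (x : Aˣ) (y : Aˣ)
  rwa [show cj A x (y : Aˣ) = (y : Aˣ) from h3 y y.2.2 ⟨y, hy, rfl⟩] at h7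

omit [Finite A] hY in
theorem Pl.mem_fix {y : Nh F Y} (hy : y ∈ P) : ((y : Aˣ) : A) ∈ fixR (P'.map (io F Y)) := by
  rintro _ ⟨x, hx, rfl⟩
  exact cj_eq_of_mul (congrArg (fun u : Nh F Y => ((u : Aˣ) : A)) (h1.comm y hy x hx).symm)

include hA h2

theorem Pl.ind (hf : fixR Y = Subring.center A) {Q : A → Prop}
    (a1 : ∀ c ∈ Subring.center A, ∀ y ∈ P, Q (c * ((y : Aˣ) : A))) (a2 : ∀ a b, Q a → Q b → Q (a + b)) :
    ∀ a ∈ fixR (P'.map (io F Y)), Q a := by
  have h3 := h2.nd hY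
  have := Fintype.ofFinite (P'.map (io F Y))
  obtain ⟨m, hm⟩ := exists_natinv hA h3.card
  intro a ha
  rw [← avg_fix hm ha]
  refine hY.ind hA (P := fun a => Q (avg _ m a)) (fun c hc u hu hu' => ?_) (fun a b ha hb => ?_) a
  · rw [hf] at hc
    obtain ⟨y, hy, h4⟩ := h1.prod ⟨u, hu', hu⟩
    obtain ⟨w, hw⟩ : ∃ w, w = y⁻¹ * ⟨u, hu', hu⟩ := ⟨_, rfl⟩
    have h5 : (u : A) = (y : Aˣ) * (w : Aˣ) := by rw [hw]; simp only [_root_.Subgroup.coe_mul, _root_.InvMemClass.coe_inv, _root_.Units.val_mul, _root_.Units.mul_inv_cancel_left]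
    rw [← hw] at h4
    rw [h5, avg_left (h3.cen_le hc), avg_left (h1.mem_fix hy)]
    by_cases h6 : w ∈ Uh F Y
    · rw [avg_fix hm (h3.cen_le h6), cen_comm h6, ← mul_assoc]
      exact a1 _ (mul_mem hc h6) y hy
    · rw [h3.avg_lift hA m w.2.2 ⟨w, h4, rfl⟩ (mt DS.Cl.cj_eq_one_iff.1 h6), mul_zero, mul_zero,
        ← zero_mul ((y : Aˣ) : A)]
      exact a1 _ (zero_mem _) y hy
  · rw [map_add]
    exact a2 _ _ ha hb

omit h2 hY in
theorem Pl.le_S (h0 : (2 : A) ≠ 0) (hL : F.L = Lmax A) (hst : Sty (Uh F Y) 2)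
    (h4 : ∀ x, ∃ c ∈ Uh F Y, ((x * c) ^ 2) ^ 2 = 1) : P.map (io F Y) ≤ F.S := by
  have h5 : ∀ x ∈ P, x ∉ Uh F Y → ∃ k ∈ P, x⁻¹ * k ∈ Uh F Y ∧ ((k : Aˣ) : A) * (k : Aˣ) = -1 := by
    intro x hx hx'
    obtain ⟨c, hc, h6⟩ := h4 x
    refine ⟨x * c, mul_mem hx (h1.le hc), by rwa [inv_mul_cancel_left], ?_⟩
    have h7 := sq_eq_neg hA (hst.pow (x * c)) (mul_star _) (by
      rw [sq] at h6
      exact congrArg (fun u : Nh F Y => ((u : Aˣ) : A)) h6) fun e => h1.ns x hx hx' c hc (Subtype.ext (Units.ext e))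
    rw [sq] at h7
    exact h7
  rintro _ ⟨x, hx, rfl⟩
  by_cases hx' : x ∈ Uh F Y
  · rw [show io F Y x = 1 from DS.Cl.cj_eq_one_iff.2 hx']
    exact one_mem _
  obtain ⟨y, hy, h6, h7⟩ := h1.two x hx
  obtain ⟨k, hk, h8, h9⟩ := h5 x hx hx'
  obtain ⟨i, hi, h10, h11⟩ := h5 y hy h6
  have hn : (Uh F Y).Normal := io_ker (F := F) (Y := Y) ▸ inferInstance
  have h12 : ((i : Aˣ) : A) * (k : Aˣ) = -((k : Aˣ) * (i : Aˣ)) := by
    have h13 := sq_eq_neg hA (hst.comm i k) (mul_star _) (by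
      have h14 := hst.comm_pow_r i k
      rw [sq] at h14
      exact congrArg (fun u : Nh F Y => ((u : Aˣ) : A)) h14) fun e => h7 (by
      have h14 := h1.cm i hi k hk (fun e => h6 (by simpa using mul_mem e (inv_mem h10)))
        (fun e => hx' (by simpa only [_root_.mul_inv_rev, _root_.inv_inv, _root_.mul_inv_cancel_left] using mul_mem e (inv_mem h8)))
        (commutatorElement_eq_one_iff_mul_comm.1 (Subtype.ext (Units.ext e)))
      simpa only [mul_assoc, _root_.mul_inv_cancel_left, _root_.mul_inv_rev, _root_.inv_inv] using mul_mem (mul_mem h10 h14) (inv_mem h8))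
    have h14 : i * k = ⁅i, k⁆ * (k * i) := by rw [commutatorElement_def]; group
    have h15 : ((i : Aˣ) : A) * (k : Aˣ) = ((⁅i, k⁆ : Nh F Y) : Aˣ) * (((k : Aˣ) : A) * (i : Aˣ)) :=
      congrArg (fun u : Nh F Y => ((u : Aˣ) : A)) h14
    rw [h15, h13, neg_one_mul]
  have h13 : ∀ u : Nh F Y, ((u : Aˣ) : A) * (u : Aˣ) = -1 → star ((u : Aˣ) : A) = -(u : Aˣ) := fun u hu => by
    rw [star_eq]
    exact Units.inv_eq_of_mul_eq_one_right (by rw [mul_neg, hu, neg_neg])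
  have h14 := h13 k h9
  have h15 := h13 i h11
  obtain ⟨t, ht⟩ := hA.isUnit_of_cen (c := 2) (natCast_mem _ 2) (star_ofNat 2) h0
  have h16 : ((t⁻¹ : Aˣ) : A) ∈ Subring.center A := inv_cen (ht ▸ natCast_mem _ 2)
  have h17 : ((t⁻¹ : Aˣ) : A) * 2 = 1 := by rw [← ht, Units.inv_mul]
  have h18 : star ((t⁻¹ : Aˣ) : A) = (t⁻¹ : Aˣ) := by
    have h19 := congrArg star h17
    rw [star_mul, star_ofNat, star_one] at h19
    rw [← one_mul (star _), ← h17, mul_assoc, h19, mul_one]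
  have hkx : io F Y k = io F Y x := by
    rw [eq_comm, ← inv_mul_eq_one, ← map_inv, ← map_mul]
    exact DS.Cl.cj_eq_one_iff.2 h8
  rw [← hkx]
  have hiI := i.2.2
  change cj A (k : Aˣ) ∈ F.S
  generalize (i : Aˣ) = i at h11 h12 h15 hiI
  generalize (k : Aˣ) = k at h9 h12 h14
  generalize ((t⁻¹ : Aˣ) : A) = t at h16 h17 h18
  have e2 : ∀ a : A, (k : A) * (k * a) = -a := fun a => by rw [← mul_assoc, h9, neg_one_mul]
  have e3 : ∀ a : A, (i : A) * (k * a) = -(k * (i * a)) := fun a => by rw [← mul_assoc, h12, neg_mul, mul_assoc]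
  have h19 : t * (1 + i + k * i + k) * star (t * (1 + i + k * i + k)) = 1 := by
    have e4 : (1 + i + k * i + k : A) * star (1 + i + k * i + k : A) = 2 * 2 := by
      simp only [star_add, star_mul, star_one, h14, h15, mul_add, add_mul, mul_neg, neg_mul, neg_neg, mul_assoc, e2,
        e3, h9, h11, h12, mul_one, one_mul]
      rw [← one_add_one_eq_two]
      noncomm_ring
    rw [star_mul, h18, mul_assoc, ← mul_assoc _ _ t, e4, cen_comm h16, ← mul_assoc t 2, h17, one_mul, h17]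
  refine ⟨⁅mkU _ h19, i⁆, Subgroup.commutator_mem_commutator (P5.mem_Iso_of_max hL h19) hiI, congrArg (cj A) ?_⟩
  rw [commutatorElement_def, mul_inv_eq_iff_eq_mul, mul_inv_eq_iff_eq_mul]
  refine Units.ext ?_
  rw [Units.val_mul, Units.val_mul, Units.val_mul, mkU_val, ← mul_assoc _ t, cen_comm h16, mul_assoc, mul_assoc t]
  congr 1
  simp only [mul_add, add_mul, mul_neg, neg_neg, mul_assoc, e2, e3, h9, h11, h12, mul_one, one_mul]
  abel

theorem Pl.comm_fix (hf : fixR Y = Subring.center A) :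
    ∀ a ∈ fixR (P'.map (io F Y)), ∀ b ∈ fixR (P.map (io F Y)), a * b = b * a := by
  refine h1.ind hA hY h2 hf (fun c hc y hy b hb => ?_) fun a a' ha ha' b hb => by rw [add_mul, mul_add, ha b hb, ha' b hb]
  rw [mul_assoc, ← cj_mul_eq, show cj A y b = b from hb _ ⟨y, hy, rfl⟩, ← mul_assoc, ← mul_assoc, cen_comm hc]

end four

section ctx

variable (h : Cl.Ctx F S) (hN : NoCom F S) (hY : Ab F S Y)
include h hN hY

theorem Pl.DC_le {P P' : Subgroup (Nh F Y)} (h1 : Pl (Uh F Y) P P') (h2 : Pl (Uh F Y) P' P)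
    (hf : fixR Y = Subring.center A) : DC F (P'.map (io F Y)) ≤ S := by
  have hnd := hY.nd h.le hN
  have a1 := (h1.nd hnd).le
  have a2 := (h2.nd hnd).le
  intro t ht
  by_cases h0 : t = 1
  · rw [h0]; exact one_mem _
  have h3 : ∀ x ∈ fixR (P.map (io F Y)), ∀ t ∈ DC F (P'.map (io F Y)), t x = x := fun x hx t ht => by
    obtain ⟨u, hu, -, rfl⟩ := mem_DC a2 ht
    exact cj_eq_of_mul (h1.comm_fix h.ss hnd h2 hf _ hu x hx)
  refine h.mem_of_normalizes (X := DC F (P.map (io F Y)) ⊔ DC F (P'.map (io F Y)))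
    (sup_le ((C2.DC_le _).trans F.S_le_Aut) ((C2.DC_le _).trans F.S_le_Aut))
    (fun e => h0 (by rw [← Subgroup.mem_bot, ← e]; exact Subgroup.mem_sup_right ht)) (fun h4 => ?_) (fun s hs => ?_)
    (C2.DC_le _ ht) fun x hx => mul_mem (mul_mem (Subgroup.mem_sup_right ht) hx) (inv_mem (Subgroup.mem_sup_right ht))
  · have h5 : DC F (P.map (io F Y)) ⊔ DC F (P'.map (io F Y)) ≤ Cl.stab F (fixR (P.map (io F Y))) :=
      sup_le (fun t ht => Cl.mem_stab.2 ⟨F.S_le_Aut (C2.DC_le _ ht), fun x hx => by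
        obtain ⟨u, hu, hu', rfl⟩ := mem_DC a1 ht
        exact mul_mem (mul_mem hu hx) hu'⟩) fun t ht => Cl.mem_stab.2 ⟨F.S_le_Aut (C2.DC_le _ ht), fun x hx => by
        rw [h3 x hx t ht]; exact hx⟩
    obtain ⟨y, hy, h6, -⟩ := h2.two 1 (one_mem _)
    exact h6 (h.cen_of_inv (fun s hs => (Cl.mem_stab.1 (h5 (h4 hs))).2) ⟨t, C2.DC_le _ ht, h0, fun x hx => h3 x hx t ht⟩
      _ (h2.mem_fix hy))
  · obtain ⟨f, hf⟩ := exists_res h.le hY.inv
    have h4 : ∀ x, f ⟨s⁻¹, inv_mem hs⟩ x ∈ Uh F Y ↔ x ∈ Uh F Y := fun x => by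
      rw [mem_Uh, mem_Uh, hf]
      exact ⟨fun e => by simpa [ra_apply_inv] using map_cen s e, map_cen _⟩
    have h5 : ∀ Q Q' : Subgroup (Nh F Y), (∀ x ∈ Q, f ⟨s⁻¹, inv_mem hs⟩ x ∈ Q') →
        ∀ y ∈ Q.map (io F Y), s⁻¹ * y * s⁻¹⁻¹ ∈ Q'.map (io F Y) := by
      rintro Q Q' h6 _ ⟨x, hx, rfl⟩
      exact ⟨_, h6 x hx, (congrArg (cj A) (Units.ext (hf _ x))).trans (DS.Cl.conj_cj _ _).symm⟩
    have h6 : (DC F (P.map (io F Y)) ⊔ DC F (P'.map (io F Y))) ≤
        (DC F (P.map (io F Y)) ⊔ DC F (P'.map (io F Y))).comap (MulAut.conj s).toMonoidHom := by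
      refine sup_le (fun t ht => ?_) fun t ht => ?_
      · rcases h2.perm h1 _ h4 with h7 | h7
        · exact Subgroup.mem_sup_left (conj_DC a1 a1 (h.le hs) (h5 _ _ h7) t ht)
        · exact Subgroup.mem_sup_right (conj_DC a2 a1 (h.le hs) (h5 _ _ h7) t ht)
      · rcases h1.perm h2 _ h4 with h7 | h7
        · exact Subgroup.mem_sup_right (conj_DC a2 a2 (h.le hs) (h5 _ _ h7) t ht)
        · exact Subgroup.mem_sup_left (conj_DC a1 a2 (h.le hs) (h5 _ _ h7) t ht)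
    exact fun x hx => h6 hx

omit hN [Finite A] in
theorem Ab.not_le : ¬ F.S ≤ Y := fun e => h.noncomm ⟨⟨fun x y => Subtype.ext (hY.comm _ (e x.2) _ (e y.2))⟩⟩

omit hN in
theorem Ab.solv_fix {r : ℕ} (hst : Sty (Uh F Y) r) (hsp : Sp F Y) (h0 : Y ≠ ⊥) :
    Group.IsSolvable (Ext.Fix (Uh F Y)) := by
  have h1 : ∀ γ ∈ F.Aut ⊓ Main.nz Y, ∀ x ∈ Y, γ * x * γ⁻¹ ∈ Y := fun γ hγ x hx => (Main.mem_nz.1 hγ.2 x).1 hx
  have h2 : Group.IsSolvable ↥(F.Aut ⊓ Main.nz Y) := h.solv_of_inf_le inf_le_left fun t ht =>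
    h.mem_of_normalizes (hY.le.trans F.PI_le_Aut) h0 (hY.not_le h) hY.inv ht.2 (h1 t ht.1)
  obtain ⟨f, hf⟩ := exists_res inf_le_left h1
  have h3 : Ext.Fix (Uh F Y) ≤ f.range := fun φ hφ => by
    obtain ⟨γ, hγ, -, hγu⟩ := exists_ext h.ss hst hsp hφ
    refine ⟨⟨γ, hγ, Main.mem_nz_of fun x hx => ?_⟩, MulEquiv.ext fun u => Subtype.ext (Units.ext ((hf _ u).trans (hγu u)))⟩
    obtain ⟨u, hu, rfl⟩ := hY.le hx
    rw [DS.Cl.conj_cj, show um γ u = φ ⟨u, hx, hu⟩ from Units.ext (hγu ⟨u, hx, hu⟩)]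
    exact (φ ⟨u, hx, hu⟩).2.1
  have h4 : Group.IsSolvable f.range := Group.isSolvable_of_surjective f.rangeRestrict_surjective
  exact Group.isSolvable_of_isSolvable_injective (f := Subgroup.inclusion h3) (Subgroup.inclusion_injective _)

end ctx

/-- **The extraspecial case.** -/
theorem ext (h : Cl.Ctx F S) (hN : NoCom F S) {n : ℕ} (hn : Nat.card A = Nat.card (Subring.center A) ^ (n ^ 2))
    (h3 : 3 ≤ n) : ∃ Y, (n = 3 ∧ (3 : A) ≠ 0 ∧ Cl.ExtD F S Y 3 ∧ Nat.card Y = 9) ∨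
      (n = 4 ∧ (2 : A) ≠ 0 ∧ Cl.ExtD F S Y 2 ∧ Nat.card Y = 16 ∧ (Nat.card (Subring.center A) ≤ 3 ∨
        (Nat.card (Subring.center A) = 4 ∨ Nat.card (Subring.center A) = 9) ∧ ∃ z ∈ Subring.center A, star z ≠ z) ∧
        ∀ z ∈ Subring.center A, z * star z = 1 → z * z ≠ -1) := by
  have hA := h.ss
  have := hA.nontrivial
  obtain ⟨X, a1, a2, a3, -, a5, ⟨r, hr, a6, a7⟩, -⟩ := h.exists_min
  have hX : Ab F S X := ⟨a1.trans (inf_le_right.trans F.S_le_PI), a5, card_ne_of_exp hA hr a6 a7, a3⟩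
  obtain ⟨Y, hXY, hY, hm⟩ := Finite.exists_le_maximal (p := Ab F S) hX
  have h0 : Y ≠ ⊥ := fun e => a2 (eq_bot_iff.2 (e ▸ hXY))
  have hnd := hY.nd h.le hN
  have hf := hY.fix_eq h hN h0 fun Y' h1 h2 => hm h1 h2
  have hsp : Sp F Y := eq_top_iff.2 fun a _ => hnd.ind hA (P := fun a => a ∈ Subring.closure _)
    (fun x hx u hu hu' => mul_mem (Subring.subset_closure (Or.inl (hf ▸ hx)))
      (Subring.subset_closure (Or.inr ⟨u, hu, hu', rfl⟩))) (fun _ _ => add_mem) a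
  have hc : Nat.card Y = n ^ 2 := by
    have h1 := hnd.card_eq hA
    rw [hf, hn] at h1
    exact (Nat.pow_right_injective Finite.one_lt_card h1).symm
  obtain ⟨⟨x, hx⟩, h1⟩ := Subgroup.ne_bot_iff_exists_ne_one.1 a2
  have he := hY.exp h hN hn hc hr ⟨x, hXY hx, fun e => h1 (Subtype.ext e), a7 x hx⟩
  have hst := sty_of hA hY.le h0 hY.comm hr he hsp
  have hsv := hY.solv_fix h hst hsp h0
  have hi : (Uh F Y).index = n ^ 2 := by rw [← io_ker, Subgroup.index_ker, io_range hY.le, hc]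
  by_cases hQ : r = 2 ∧ ¬ 4 ∣ Nat.card (Uh F Y)
  swap
  · refine (solv_sty_sp hst (pow_of_nd hst hQ fun K hK x hx h4 => ?_) hsv).elim fun h4 h5 => ?_
    swap
    · have h6 : n = r := Nat.pow_left_injective two_ne_zero (hi.symm.trans h4)
      obtain rfl : r = 3 := by omega
      subst h6
      obtain ⟨k, h7, -⟩ := hX.solv h hN a2 hn
      have h8 : X = Y := by
        refine Subgroup.eq_of_le_of_card_ge hXY ?_
        have h9 : 1 < Nat.card X := (Subgroup.one_lt_card_iff_ne_bot X).2 a2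
        have h10 : k < 3 := by
          by_contra h10
          nlinarith only [h7, h9, Nat.pow_le_pow_left (not_lt.1 h10) 2]
        rw [hc]
        interval_cases k <;> omega
      subst h8
      exact ⟨X, Or.inl ⟨rfl, a6, ⟨a1, a5, a7, a3, hsp⟩, hc⟩⟩
    · obtain ⟨f, hf⟩ := exists_res h.le hY.inv
      have h5 : Ab F S (K.map (io F Y)) := hY.sub (io_le K) (by
        rintro s hs _ ⟨u, hu, rfl⟩
        exact ⟨f ⟨s, hs⟩ u, (hK _).2 (by rw [← map_pow, (hK u).1 hu, map_one]),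
          (congrArg (cj A) (Units.ext (hf _ u))).trans (DS.Cl.conj_cj _ _).symm⟩)
      refine DS.Cl.cj_eq_one_iff.1 ((h5.nd h.le hN).nd _ ⟨x, hx, rfl⟩ fun u hu hu' => cj_eq_of_mul ?_)
      exact congrArg (fun u : Nh F Y => ((u : Aˣ) : A)) (h4 ⟨u, io_le K hu', hu⟩ (mem_of_io (fun c hc => (hK c).2
        (congrArg Subtype.val (pow_card_eq_one' (x := (⟨c, hc⟩ : Uh F Y))))) hu'))
  obtain ⟨rfl, hQ⟩ := hQ
  rcases solv_sty_o hst hQ hsv with h4 | ⟨h4, h5, P, P', h6, h7⟩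
  · nlinarith only [h3, hi, h4]
  obtain rfl : n = 4 := Nat.pow_left_injective two_ne_zero (hi.symm.trans h4)
  have hL := hnd.L_eq hA h0
  have h8 : Y ≤ F.S := fun y hy => by
    rw [← io_range hY.le] at hy
    obtain ⟨u, rfl⟩ := hy
    obtain ⟨v, hv, h8⟩ := h6.prod u
    rw [← mul_inv_cancel_left v u, map_mul]
    exact mul_mem (h6.le_S hA a6 hL hst h5 ⟨v, hv, rfl⟩) (h7.le_S hA a6 hL hst h5 ⟨_, h8, rfl⟩)
  refine ⟨Y, Or.inr ⟨rfl, a6, ⟨fun y hy => ⟨h.mem_of_normalizes hnd.le_Aut h0 (hY.not_le h) hY.inv (h8 hy) fun x hx =>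
    mul_mem (mul_mem hy hx) (inv_mem hy), h8 hy⟩, hY.comm, he, hY.inv, hsp⟩, hc, ?_, fun z hz h9 h10 => hQ ?_⟩⟩
  · obtain ⟨k, h9, -, h10⟩ := (h7.nd hnd).solv hA hn (solv_of_comm h.solv (h6.DC_le h hN hY h7 hf))
      fun u hu hu' => ⟨hu, (mem_CU_lifts (h7.nd hnd).le).2 hu'⟩
    rw [← Subgroup.relIndex_ker, io_ker, h7.card] at h9
    obtain rfl : k = 2 := Nat.pow_left_injective two_ne_zero (show k ^ 2 = 2 ^ 2 by omega)
    rcases h10 with h10 | ⟨-, h10 | h10 | ⟨h10, h11 | ⟨a, ha, h11⟩⟩⟩ | ⟨h10, -⟩ | ⟨h10, -⟩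
    · omega
    · exact Or.inl h10.1
    · exact Or.inr h10
    · exact absurd hL h11
    · push Not at h10
      refine absurd (h6.ind hA hnd h7 hf (Q := fun a => a + star a ∈ Subring.center A) (fun c hc y hy => ?_)
        (fun a b ha hb => ?_) a ha) h11
      · by_cases h12 : y ∈ Uh F Y
        · exact add_mem (mul_mem hc h12) (star_cen (mul_mem hc h12))
        have h13 := sq_eq_neg hA (hst.pow y) (mul_star _) (by
          nth_rw 2 [← h10 _ (hst.pow y)]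
          exact mul_star _) fun e => h6.ns y hy h12 1 (one_mem _) (by rw [mul_one]; exact Subtype.ext (Units.ext e))
        have h14 : star ((y : Aˣ) : A) = -(y : Aˣ) := by
          rw [star_eq]
          refine Units.inv_eq_of_mul_eq_one_right ?_
          rw [mul_neg, neg_eq_iff_eq_neg, ← h13, sq]
          rfl
        rw [star_mul, h14, h10 c hc, neg_mul, cen_comm hc, add_neg_cancel]
        exact zero_mem _
      · rw [star_add, add_add_add_comm]
        exact add_mem ha hb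
    · omega
    · omega
  · let u : Uh F Y := ⟨⟨mkU z h9, by
      change cj A _ ∈ Y
      rw [DS.Cl.cj_eq_one_iff.2 hz]
      exact one_mem _, P5.mem_Iso_of_max hL h9⟩, hz⟩
    have h11 : (((u ^ 2 : Uh F Y) : Nh F Y) : Aˣ) = -1 := Units.ext (by rw [sq]; exact h10)
    have h12 : orderOf u = 2 ^ (1 + 1) := orderOf_eq_prime_pow (fun e => a6 ?_) (Subtype.ext (Subtype.ext ?_))
    · exact (show 4 = orderOf u from h12.symm) ▸ orderOf_dvd_natCard u
    · rw [pow_one] at e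
      rw [e] at h11
      rw [Nat.cast_ofNat, ← one_add_one_eq_two, add_eq_zero_iff_eq_neg]
      exact congrArg Units.val h11
    · rw [pow_succ, pow_one, pow_mul, Subgroup.coe_pow, Subgroup.coe_pow, h11, neg_one_sq]
      rfl

end Cfsg.Agent.SB.C2
end
end

-- part: SB/C2/Main
section
prune_inst 0xc01022045022000000000090410000005800000000000000a08009000108200080400800008000021022000000000020020000000000000000000000000000000000000000000000000000000000000000000000000000000000000000000004000000000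
set_option linter.all false
open scoped Cfsg.Agent.FastGrp

-- part: SB/C2/Com
section
/-!
# Invariant abelian subgroups with commuting lifts (helper56)
-/

set_option autoImplicit false

namespace Cfsg.Agent.SB.C2

open Cfsg Cfsg.Agent.DS.Cl Module

theorem Cs.of_nt {n c : ℕ} {nt o2 : Prop} (h : Cs n c nt o2) (h1 : nt) :
    n = 1 ∨ (n = 2 ∧ (c = 4 ∨ c = 9)) ∨ (n = 3 ∧ c = 4) := by
  unfold Cs at h
  tauto

variable {A : Type} [Ring A] [StarRing A]

/-- an invariant commutative subring, the centre of its star-simple centralizer -/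
structure Tor (F : FR A) (S : Subgroup (RingAut A)) (Z : Subring A) : Prop where
  com : Cl.ComSub Z
  inv : _root_.Cfsg.Agent.DS.Cl.Inv S Z
  not_le : ¬ Z ≤ Subring.center A
  nt : ∃ z ∈ Z, star z ≠ z
  l : ∃ l ∈ Subring.centralizer (Z : Set A), l + star l = 1 ∧ l - F.l ∈ F.L
  ss : ∀ hs, SS (Blk.ofSubring (Subring.centralizer (Z : Set A)) hs).T
  cen : cenOf (Subring.centralizer (Z : Set A)) = Z

variable [Finite A] {F : FR A} {S : Subgroup (RingAut A)} {Z : Subring A}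

theorem exists_tor (h : Cl.Ctx F S) (hD : ∀ D : Finset A, Fr D → ¬ _root_.Cfsg.Agent.DS.Cl.Inv S D) (hN : ¬ NoCom F S) : ∃ Z, Tor F S Z := by
  unfold NoCom at hN
  push Not at hN
  obtain ⟨G, h1, h2, h3, h4, h5⟩ := hN
  have hG := (h1.trans F.PI_le_Aut).trans F.Aut_le_SAut
  have h6 : lifts F G ⊆ cenOf (fixR G) := by
    rintro _ ⟨u, hu, hu', rfl⟩
    refine ⟨(mem_CU_lifts h1).1 ?_, fun y hy => by rw [← cj_mul_eq u y, hy _ hu']⟩
    rintro _ ⟨v, hv, hv', rfl⟩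
    exact congrArg Units.val (h4 u hu v hv hu' hv')
  have h7 : Subring.centralizer (cenOf (fixR G) : Set A) = fixR G := le_antisymm (fun a ha g hg => by
    obtain ⟨u, hu, rfl⟩ := h1 hg
    exact cj_eq_of_mul (ha _ (h6 ⟨u, hu, hg, rfl⟩))) fun a ha z hz => (hz.2 a ha).symm
  have h8 : ∀ x ∈ cenOf (fixR G), ∀ y ∈ cenOf (fixR G), x * y = y * x := fun x hx y hy => hy.2 x hx.1
  have h9 : _root_.Cfsg.Agent.DS.Cl.Inv S (cenOf (fixR G)) := inv_cenOf (inv_fixR h3)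
  have h10 := ss_fix h.ss hG h2 fun e he a1 a2 => by
    by_contra a3
    push Not at a3
    obtain ⟨D, a4, -, a5⟩ := exists_frame _ h8 he a1 a2 a3.1 a3.2
    exact hD D a4 (a5 S h.le_SAut h9)
  refine ⟨cenOf (fixR G), ⟨fun z hz => ⟨cen_le_fixR (h1.trans F.PI_le_Lin) hz, fun y _ => cen_comm hz y⟩,
    fun z hz => ⟨star_fixR hG z hz.1, fun y hy => ?_⟩, h8⟩, h9, fun e => lifts_not_le h1 h5 (h6.trans e), ?_, ?_, ?_, ?_⟩
  · simpa only [_root_.StarMul.star_mul, _root_.star_star] using (congrArg star (hz.2 _ (star_fixR hG y hy))).symm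
  · by_contra a1
    push Not at a1
    refine lifts_not_le h1 h5 ?_
    rintro _ ⟨u, hu, hu', rfl⟩
    have a2 := h6 ⟨u, hu, hu', rfl⟩
    let B := Blk.ofSubring (fixR G) (star_fixR hG)
    have a3 : (u : A) * star (u : A) = 1 := FR.Iso.ms hu
    by_cases a4 : B.mk' u a2.1 = 1
    · rw [show (u : A) = 1 from congrArg B.val a4]
      exact one_mem _
    obtain ⟨w, hw⟩ := Ext.isUnit_sub_one h10 (c := B.mk' u a2.1) (B.mem_center_iff.2 a2.2) (B.val_inj a3) a4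
    have a5 : (w : B.T) * (B.mk' u a2.1 + 1) = 0 := by
      rw [hw]
      refine B.val_inj ?_
      change ((u : A) - 1) * (u + 1) = 0
      rw [a1 _ a2] at a3
      rw [sub_mul, mul_add, a3, mul_one, one_mul, add_comm, sub_self]
    have a6 : (u : A) + 1 = 0 := congrArg B.val (w.mul_right_eq_zero.1 a5)
    rw [eq_neg_of_add_eq_zero_left a6]
    exact neg_mem (one_mem _)
  · rw [h7]
    exact exists_l h.ss (h1.trans F.PI_le_Aut) h2
  · rw [h7]
    exact fun _ => h10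
  · rw [h7]

namespace Tor

variable (hZ : Tor F S Z)
include hZ

omit [Finite A] in
/-- the centralizer -/
def blk : Blk A := Blk.ofSubring (Subring.centralizer (Z : Set A)) (star_centralizer hZ.com.2.1)

omit [Finite A] in
theorem le_cent : Z ≤ Subring.centralizer (Z : Set A) := fun x hx y hy => hZ.com.2.2 y hy x hx

omit [Finite A] in
theorem cen_iff {x : hZ.blk.T} : x ∈ Subring.center hZ.blk.T ↔ hZ.blk.val x ∈ Z := by
  rw [Blk.mem_center_iff]
  exact ⟨fun h => hZ.cen.le ⟨x.2, h⟩, fun h y hy => (hy _ h).symm⟩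

omit [Finite A] in
theorem ss' : SS hZ.blk.T := hZ.ss _

omit [Finite A] in
theorem eps {e : A} (he : e ∈ Z) (h1 : e * e = e) (h2 : e + star e = 1) : Eps (hZ.blk.mk' e (hZ.le_cent he)) :=
  ⟨hZ.cen_iff.2 he, hZ.blk.val_inj h1, hZ.blk.val_inj h2⟩

theorem cases : (∃ e ∈ Z, e * e = e ∧ e + star e = 1) ∨ IsF Z := by
  refine or_iff_not_imp_left.2 fun h => ⟨hZ.com.2.2, fun x hx h0 => ?_⟩
  obtain ⟨u, hu⟩ := hZ.ss'.isUnit_of_not_eps (fun ⟨e, he⟩ => h ⟨_, hZ.cen_iff.1 he.cen,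
    congrArg hZ.blk.val he.idem, congrArg hZ.blk.val he.add⟩) (c := hZ.blk.mk' x (hZ.le_cent hx)) (hZ.cen_iff.2 hx)
    fun e => h0 (congrArg hZ.blk.val e)
  refine ⟨hZ.blk.val (u⁻¹ : hZ.blk.Tˣ), hZ.cen_iff.1 (inv_cen (hu ▸ hZ.cen_iff.2 hx)), ?_⟩
  have h1 := u.mul_inv
  rw [hu] at h1
  exact congrArg hZ.blk.val h1

omit [Finite A] in
theorem inv_pair (hS : S ≤ SAut A) {e : A} (he : e ∈ Z) (h1 : e * e = e) (h2 : e + star e = 1) :
    _root_.Cfsg.Agent.DS.Cl.Inv S {e, star e} := by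
  have h3 : ∀ s ∈ S, s e = e ∨ s e = star e := fun s hs =>
    (hZ.ss'.eps_unique (hZ.eps he h1 h2) (hZ.eps (hZ.inv s hs e he) (by rw [← map_mul, h1])
      (by rw [← hS hs, ← map_add, h2, map_one]))).imp (congrArg hZ.blk.val) (congrArg hZ.blk.val)
  rintro s hs _ (rfl | rfl)
  · exact h3 s hs
  · rw [hS hs]
    rcases h3 s hs with h4 | h4 <;> rw [h4]
    · exact Or.inr rfl
    · exact Or.inl (star_star e)

omit [Finite A] in
theorem sub_l {e : A} (he : e ∈ Z) (h2 : e + star e = 1) : e - F.l ∈ F.L := by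
  obtain ⟨l, a1, a2, a3⟩ := hZ.l
  have h3 := F.L.sub_mem a3 (F.sub_star_mem (e * (l - e)))
  have h4 : star e = 1 - e := eq_sub_of_add_eq' h2
  have h5 : star l = 1 - l := eq_sub_of_add_eq' a2
  have h6 : e * l = l * e := a1 e he
  rw [star_mul, star_sub, h4, h5] at h3
  convert h3 using 1
  rw [mul_sub e, h6]
  noncomm_ring

omit [Finite A] in
theorem eps_inv {ε x : A} (hε : Eps ε) (hx : x ∈ Z) (h0 : ε * x ≠ 0) : ∃ d ∈ Z, d * x = ε := by
  obtain ⟨d, h1, h2⟩ := hZ.ss'.eps_inv (hZ.eps (hZ.com.1 hε.cen) hε.idem hε.add)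
    (c := hZ.blk.mk' x (hZ.le_cent hx)) (hZ.cen_iff.2 hx) fun e => h0 (congrArg hZ.blk.val e)
  exact ⟨_, hZ.cen_iff.1 h1, congrArg hZ.blk.val h2⟩

theorem self (h : Cl.Ctx F S) (h4 : 4 ≤ Nat.card (Subring.center A)) : Subring.centralizer (Z : Set A) = Z := by
  obtain ⟨l, a1, a2, a3⟩ := hZ.l
  obtain ⟨m, h1, h2⟩ := solv_sub F (hZ.ss (star_centralizer hZ.com.2.1)) a1 a2 a3
    (solv_CU h hZ.inv hZ.not_le) fun u hu hu' => ⟨hu, fun w hw => (hu' w hw).symm⟩
  rw [hZ.cen] at h1 h2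
  have h3 : Nat.card (Subring.center A) ∣ Nat.card Z :=
    AddSubgroup.card_dvd_of_le (H := (Subring.center A).toAddSubgroup) (K := Z.toAddSubgroup) hZ.com.1
  have h5 : Nat.card (Subring.center A) ≠ Nat.card Z := fun e => hZ.not_le (AddSubgroup.eq_of_le_of_card_ge
    (H := (Subring.center A).toAddSubgroup) (K := Z.toAddSubgroup) hZ.com.1 e.ge).ge
  have h6 : Nat.card Z ≠ 4 ∧ Nat.card Z ≠ 9 := by
    have h7 := Nat.le_of_dvd Nat.card_pos h3
    generalize Nat.card (Subring.center A) = c at h3 h4 h5 h7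
    refine ⟨by omega, fun e => ?_⟩
    rw [e] at h3 h5 h7
    interval_cases c <;> omega
  obtain rfl : m = 1 := by have := h2.of_nt hZ.nt; omega
  rw [one_pow, pow_one] at h1
  exact Subring.toAddSubgroup_injective (AddSubgroup.eq_of_le_of_card_ge (H := Z.toAddSubgroup)
    (K := (Subring.centralizer (Z : Set A)).toAddSubgroup) hZ.le_cent h1.le).symm

end Tor

/-- two complementary totally isotropic subspaces -/
theorem solv_half {e : A} (h1 : e * e = e) (h2 : e + star e = 1) (h3 : e - F.l ∈ F.L)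
    (hs : Group.IsSolvable ↥(F.Iso ⊓ CU {e, star e})) {H : Type} [Group H] (φ : H → A)
    (hm : ∀ g g', φ (g * g') = φ g * φ g') (ho : φ 1 = e) (hi : Function.Injective φ) : Group.IsSolvable H := by
  have a1 : ∀ g, e * φ g = φ g := fun g => by rw [← ho, ← hm, one_mul]
  have a2 : ∀ g, φ g * e = φ g := fun g => by rw [← ho, ← hm, mul_one]
  have a3 : star e = 1 - e := eq_sub_of_add_eq' h2
  have a4 : ∀ g, e * star (φ g) = 0 := fun g => by
    rw [← a2, star_mul, ← mul_assoc, a3, mul_sub, h1, mul_one, sub_self, zero_mul]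
  have a5 : ∀ g, star (φ g) * e = 0 := fun g => by
    rw [← a1, star_mul, mul_assoc, a3, sub_mul, h1, one_mul, sub_self, mul_zero]
  have a6 : ∀ g g', (φ g + star (φ g⁻¹)) * (φ g' + star (φ g'⁻¹)) = φ (g * g') + star (φ (g * g')⁻¹) := fun g g' => by
    rw [add_mul, mul_add, mul_add, ← hm, ← star_mul, ← hm, mul_inv_rev, ← a2 g, mul_assoc, a4, ← a1 g', ← mul_assoc, a5,
      mul_zero, zero_mul, add_zero, zero_add]
  have a7 : ∀ g, star (φ g + star (φ g⁻¹)) = φ g⁻¹ + star (φ g⁻¹⁻¹) := fun g => by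
    rw [star_add, star_star, inv_inv, add_comm]
  have a8 : ∀ g, (φ g + star (φ g⁻¹)) * star (φ g + star (φ g⁻¹)) = 1 := fun g => by
    rw [a7, a6, mul_inv_cancel, inv_one, ho, h2]
  have a9 : ∀ g, (φ g + star (φ g⁻¹)) * e = e * (φ g + star (φ g⁻¹)) := fun g => by
    rw [add_mul, mul_add, a1, a2, a4, a5]
  let f : H →* ↥(F.Iso ⊓ CU {e, star e}) := MonoidHom.mk' (fun g => ⟨mkU _ (a8 g), ⟨a8 g, by
      have b1 := F.L.sub_mem h3 (F.conj_mem h3 (φ g + star (φ g⁻¹)))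
      rw [mul_sub, sub_mul, a9, mul_assoc e, a8, mul_one] at b1
      convert b1 using 1
      rw [mkU_val]
      abel⟩, by
      rintro _ (rfl | rfl)
      · exact a9 g
      · rw [a3, mkU_val, mul_sub, sub_mul, a9, mul_one, one_mul]⟩) fun g g' => Subtype.ext (Units.ext (a6 g g').symm)
  refine Group.isSolvable_of_isSolvable_injective (f := f) fun g g' b1 => hi ?_
  have b2 : φ g + star (φ g⁻¹) = φ g' + star (φ g'⁻¹) := congrArg (fun u : ↥(F.Iso ⊓ CU {e, star e}) => ((u : Aˣ) : A)) b1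
  have b3 := congrArg (e * ·) b2
  simpa only [mul_add, a1, a4, add_zero] using b3

variable {K V : Type} [Field K] [Finite K] [AddCommGroup V] [Module K V] [Finite V] [Nontrivial V] (ψ : A ≃+* End K V)
include ψ

omit [Finite K] [Nontrivial V] in
theorem half_le [Fintype K] {e : A} (h1 : e * e = e) (h2 : e + star e = 1) (h3 : e - F.l ∈ F.L)
    (hs : Group.IsSolvable ↥(F.Iso ⊓ CU {e, star e})) : finrank K (LinearMap.range (ψ e)) ≤ 1 ∨
      (finrank K (LinearMap.range (ψ e)) = 2 ∧ Fintype.card K ≤ 3) := by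
  have a1 : ∀ x : LinearMap.range (ψ e), (ψ e).rangeRestrict x = x := by
    rintro ⟨_, x, rfl⟩
    exact Subtype.ext (by rw [LinearMap.codRestrict_apply, ← End.mul_apply, ← map_mul, h1])
  refine solv_lin (solv_half h1 h2 h3 hs (fun g => ψ.symm ((LinearMap.range (ψ e)).subtype ∘ₗ g.toLinearMap ∘ₗ
    (ψ e).rangeRestrict)) (fun g g' => ?_) ?_ fun g g' a2 => LinearEquiv.ext fun x => Subtype.ext ?_)
  · rw [← map_mul]
    exact congrArg ψ.symm (LinearMap.ext fun v => by simp only [a1, _root_.LinearEquiv.coe_toLinearMap_mul, _root_.LinearMap.coe_comp, _root_.Submodule.coe_subtype, _root_.Function.comp_apply, _root_.Module.End.mul_apply, _root_.LinearEquiv.coe_coe])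
  · rw [RingEquiv.symm_apply_eq]
    rfl
  · simpa only [a1, _root_.SetLike.coe_eq_coe, _root_.LinearMap.coe_comp, _root_.Submodule.coe_subtype, _root_.LinearEquiv.coe_coe, _root_.Function.comp_apply] using LinearMap.congr_fun (ψ.symm.injective a2) x

theorem Tor.half (hZ : Tor F S Z) (h : Cl.Ctx F S) :
    IsF Z ∨ finrank K V ≤ 2 ∨ (finrank K V ≤ 4 ∧ Nat.card K ≤ 3) := by
  have := Fintype.ofFinite K
  refine hZ.cases.symm.imp_right fun ⟨e, he, h1, h2⟩ => ?_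
  have h3 : ¬ ({e, star e} : Set A) ⊆ Subring.center A := fun a1 => by
    have a2 : Eps e := ⟨a1 (Or.inl rfl), h1, h2⟩
    have := h.ss.nontrivial
    obtain ⟨c, rfl⟩ := P5.exists_smul ψ a2.cen
    rw [← map_mul, smul_mul_smul_comm, mul_one] at h1
    rcases IsIdempotentElem.iff_eq_zero_or_one.1 (H277.FC.smul_one_inj (V := V) (ψ.symm.injective h1)) with rfl | rfl
    · exact a2.ne_zero (by simp)
    · exact a2.ne_one (by simp)
  have h4 := solv_CU h (hZ.inv_pair h.le_SAut he h1 h2) h3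
  have h5 : star e + star (star e) = 1 := by rw [star_star, add_comm, h2]
  have h6 := half_le ψ h1 h2 (hZ.sub_l he h2) h4
  have h7 := half_le ψ (e := star e) (by rw [← star_mul, h1]) h5 (hZ.sub_l (hZ.com.2.1 e he) h5)
    (by rwa [star_star, Set.pair_comm])
  have h8 := Submodule.finrank_add_le_finrank_add_finrank (LinearMap.range (ψ e)) (LinearMap.range (ψ (star e)))
  rw [show LinearMap.range (ψ e) ⊔ LinearMap.range (ψ (star e)) = ⊤ from eq_top_iff.2 fun v _ =>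
    Submodule.mem_sup.2 ⟨_, ⟨v, rfl⟩, _, ⟨v, rfl⟩, by rw [← LinearMap.add_apply, ← map_add, h2, map_one]; rfl⟩,
    finrank_top] at h8
  rw [Nat.card_eq_fintype_card]
  omega

/-- **The quadratic subfield.** -/
theorem Tor.step (hZ : Tor F S Z) (h : Cl.Ctx F S) (hf : IsF Z) {t : ℕ} (ht : t ≠ 0)
    (hc : Nat.card Z = (Nat.card K ^ 2) ^ t) : ∃ (W : Subring A) (m : ℕ), Cl.ComSub W ∧ _root_.Cfsg.Agent.DS.Cl.Inv S W ∧ IsF W ∧
      Nat.card W = Nat.card K ^ 2 ∧ finrank K V = 2 * m ∧ Nat.card V = Nat.card W ^ m ∧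
      Cs m (Nat.card K ^ 2) (∃ z ∈ W, star z ≠ z)
        (F.L ≠ Lmax A ∨ ∃ x ∈ Subring.centralizer (W : Set A), x + star x ∉ W) ∧
      ∀ y ∈ Subring.centralizer (W : Set A), (∀ v, ∃ w ∈ W, ψ y v = ψ w v) → y ∈ W := by
  have := h.ss.nontrivial
  have hK : 2 ≤ Nat.card K := Finite.one_lt_card
  obtain ⟨W, h1, h2, h3⟩ := hf.sub ht (by nlinarith only [hK]) hc
  have h4 : Subring.center A ≤ W := fun c hc => (h1 c).2 ⟨hZ.com.1 hc, by
    obtain ⟨k, rfl⟩ := P5.exists_smul ψ hc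
    have := Fintype.ofFinite K
    rw [← map_pow, smul_pow, one_pow, Nat.card_eq_fintype_card, FiniteField.pow_card_pow]⟩
  have h5 : ∀ x ∈ W, star x ∈ W := fun x hx =>
    (h1 _).2 ⟨hZ.com.2.1 x ((h1 x).1 hx).1, by rw [← star_pow, ((h1 x).1 hx).2]⟩
  have h6 : _root_.Cfsg.Agent.DS.Cl.Inv S W := fun s hs x hx => (h1 _).2 ⟨hZ.inv s hs x ((h1 x).1 hx).1, by rw [← map_pow, ((h1 x).1 hx).2]⟩
  obtain ⟨m, a1, a2, a3, a4, a5⟩ := h2.cent ψ h4
  obtain ⟨l, b1, b2, b3⟩ := hZ.l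
  obtain ⟨k, b4, b5⟩ := solv_sub F (ss_of_simple (star_centralizer h5) a3) (l := l)
    (fun w hw => b1 w ((h1 w).1 hw).1) b2 b3 (solv_CU h h6 fun e => by
      have b4 := AddSubgroup.card_le_of_le (H := W.toAddSubgroup) (K := (Subring.center A).toAddSubgroup) e
      have b5 : Nat.card W ≤ Nat.card (Subring.center A) := b4
      rw [h3, card_center ψ] at b5
      nlinarith only [hK, b5]) fun u hu hu' => ⟨hu, fun w hw => (hu' w hw).symm⟩
  rw [a4] at b4 b5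
  obtain rfl : m = k := Nat.pow_left_injective two_ne_zero
    (Nat.pow_right_injective (Finite.one_lt_card (α := W)) (a2.symm.trans b4))
  refine ⟨W, m, ⟨h4, h5, h2.comm⟩, h6, h2, h3, Nat.pow_right_injective hK ?_, a1, h3 ▸ b5, a5⟩
  change Nat.card K ^ _ = Nat.card K ^ _
  rw [pow_mul, ← h3, ← a1]
  exact Module.natCard_eq_pow_finrank.symm

end Cfsg.Agent.SB.C2
end

-- part: SB/C2/Main
section
/-!
# S5765, classical groups: the groups without invariant frame (helper56)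
-/

set_option autoImplicit false

namespace Cfsg.Agent.SB.C2

open Cfsg Cfsg.Agent.DS.Cl Cfsg.Agent.DS.Cl.Fwd Module Cfsg.Agent.SB.Cl
open scoped Matrix

section ring

variable {A : Type} [Ring A] [StarRing A] [Finite A] {F : FR A} {S : Subgroup (RingAut A)}

omit [StarRing A] [Finite A] in
theorem cast_card_center : (Nat.card (Subring.center A) : A) = 0 := by
  simpa only [_root_.nsmul_eq_mul, _root_.mul_one, _root_.SubringClass.coe_natCast, _root_.ZeroMemClass.coe_zero] using congrArg Subtype.val (card_nsmul_eq_zero' (x := (1 : Subring.center A)))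

theorem iso_le (h : Cl.Ctx F S) (hL : F.L = Lmax A) (F' : FR A) (hS : S ≤ F'.Aut) (hns : ¬ Group.IsSolvable F'.Iso) :
    F.Iso ≤ F'.Iso := by
  have h1 : F'.Iso ≤ F.Iso := fun u hu => mem_Iso_max hL hu.1
  have h2 : F'.S ≤ F.S := Subgroup.map_mono (Subgroup.commutator_mono h1 h1)
  have h3 : F.S ≤ F'.S := by
    by_contra h3
    refine hns (solv_of_comm h.solv fun t ht => ?_)
    by_cases h4 : F'.S = ⊥
    · rw [show t = 1 from (Subgroup.eq_bot_iff_forall _).1 h4 t ht]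
      exact one_mem _
    exact h.mem_of_normalizes (h2.trans F.S_le_Aut) h4 h3 (fun s hs x hx => FR.conj_mem_S (hS hs) hx) (h2 ht)
      fun x hx => mul_mem (mul_mem ht hx) (inv_mem ht)
  intro u hu
  refine ⟨hu.1, FR.mem_L_of_inv h.ss (F.S_le_Aut.trans F.Aut_le_SAut) (fun R hR => FR.two_of_S h.span hR) ?_
    fun t ht => ?_⟩
  · rw [star_sub, star_mul, star_mul, star_star, eq_sub_of_add_eq' F'.l_add, sub_mul, mul_sub, one_mul, hu.1, mul_assoc]
    abel
  · have h4 := F'.map_mem (FR.cj_mem_Aut hu).1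
      (F'.S_le_Aut (h3 (FR.conj_mem_S (inv_mem (FR.cj_mem_Aut hu)) ht))).2
    rw [map_sub, inv_inv, ra_mul, ra_mul, ra_apply_inv, FR.Iso.cj_apply hu] at h4
    convert F'.L.sub_mem h4 (F'.S_le_Aut (h3 ht)).2 using 1
    rw [map_sub]
    abel

end ring

section L

variable {n : ℕ} {K : Type} [Field K] [Finite K]

theorem prL_bij : Function.Bijective fun a : LR (Fin n) K => (Fld.prL n K a, Fld.prL n K (star a)) :=
  ⟨fun a b e => sub_eq_zero.1 (Fld.luL.sep _ (by rw [map_sub, (Prod.mk.inj e).1, sub_self])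
    (by rw [star_sub, map_sub, (Prod.mk.inj e).2, sub_self])), fun x =>
    ⟨LR.mk (Matrix.toLinAlgEquiv'.symm x.1) (Matrix.toLinAlgEquiv'.symm x.2)ᵀ, Prod.ext
      (Matrix.toLinAlgEquiv'.apply_symm_apply x.1) (Matrix.toLinAlgEquiv'.apply_symm_apply x.2)⟩⟩

/-- **Linear groups without invariant frame.** -/
theorem nofrL {F : FR (LR (Fin n) K)} {S : Subgroup (RingAut (LR (Fin n) K))} (h3 : 3 ≤ n)
    (h4 : n ≤ 4 → 3 ≤ Nat.card K) (h : Cl.Ctx F S) (hD : ∀ D : Finset (LR (Fin n) K), Fr D → ¬ _root_.Cfsg.Agent.DS.Cl.Inv S D) :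
    (∃ Z : Subring (LR (Fin n) K), ComSub Z ∧ _root_.Cfsg.Agent.DS.Cl.Inv S Z ∧ (∀ x ∈ Z, x.1 ≠ 0 → IsUnit x.1) ∧ Nat.card Z = Nat.card K ^ (2 * n)) ∨
      ∃ Y, (n = 3 ∧ 4 ≤ Nat.card K ∧ ExtD F S Y 3 ∧ Nat.card Y = 9) ∨
        (n = 4 ∧ Nat.card K = 3 ∧ ExtD F S Y 2 ∧ Nat.card Y = 16) := by
  have : Nonempty (Fin n) := ⟨⟨0, by omega⟩⟩
  have hπ := prL_bij (n := n) (K := K)
  have hc := L_card_center hπ
  have hK : 2 ≤ Nat.card K := Finite.one_lt_card
  by_cases hN : NoCom F S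
  · obtain ⟨Y, hY⟩ := ext h hN (n := n) (by
      rw [L_card hπ, card_end, hc, finrank_fin_fun, ← pow_mul, ← pow_mul, mul_comm]) h3
    refine Or.inr ⟨Y, hY.imp (fun ⟨a1, a2, a3⟩ => ⟨a1, ?_, a3⟩) fun ⟨a1, _, a3, a4, a5, _⟩ => ⟨a1, ?_, a3, a4⟩⟩
    · have a4 : Nat.card K ≠ 3 := fun e => cast_mul_ne h.ss (a := 3) (b := 3) a2 a2 (by
        rw [← cast_card_center, hc, e]; rfl)
      have := h4 (by omega)
      omega
    · have := h4 (by omega)
      rw [hc] at a5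
      rcases a5 with a5 | ⟨a5 | a5, -⟩ <;> nlinarith only [this, a5]
  obtain ⟨Z, hZ⟩ := exists_tor h hD hN
  obtain ⟨ε, hε, h1, h2⟩ := L_eps hπ
  have h5 : IsF (Z.map (Fld.prL n K)) := ⟨by
    rintro _ ⟨x, hx, rfl⟩ _ ⟨y, hy, rfl⟩
    rw [← map_mul, ← map_mul, hZ.com.2.2 x hx y hy], by
    rintro _ ⟨x, hx, rfl⟩ h0
    obtain ⟨d, hd, e⟩ := hZ.eps_inv hε hx fun e => h0 (by rw [← one_mul (Fld.prL n K x), ← h1, ← map_mul, e, map_zero])
    exact ⟨_, ⟨d, hd, rfl⟩, by rw [← map_mul, hZ.com.2.2 x hx d hd, e, h1]⟩⟩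
  obtain ⟨m, a1, a2, -⟩ := h5.cent (RingEquiv.refl _) fun z hz => by
    obtain ⟨c, rfl⟩ := P5.exists_smul (RingEquiv.refl _) hz
    obtain ⟨a, b1, b2⟩ := L_surj hπ (c • 1) (c • 1)
    exact ⟨a, hZ.com.1 (L_cen hπ b1 b2), b1⟩
  have h6 : Subring.centralizer (Z.map (Fld.prL n K) : Set (End K (Fin n → K))) = Z.map (Fld.prL n K) := by
    refine le_antisymm (fun x hx => ?_) fun x hx y hy => h5.comm y hy x hx
    obtain ⟨a, rfl, b2⟩ := L_surj hπ x 0
    refine ⟨a, (hZ.self h (by rw [hc]; nlinarith only [hK])).le fun z hz => L_inj hπ ?_ ?_, rfl⟩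
    · rw [map_mul, map_mul]
      exact hx _ ⟨z, hz, rfl⟩
    · rw [star_mul, star_mul, map_mul, map_mul, b2, mul_zero, zero_mul]
  have : Finite (End K (Fin n → K)) := Finite.of_surjective _ Fld.luL.surj
  rw [h6] at a2
  obtain rfl : m = 1 := (Nat.pow_eq_one.1 (Nat.pow_right_injective (Finite.one_lt_card (α := Z.map (Fld.prL n K)))
    (a2.symm.trans (pow_one _).symm))).resolve_right two_ne_zero
  refine Or.inl ⟨Z, hZ.com, hZ.inv, fun x hx h0 => ?_, ?_⟩
  · exact (MulEquiv.isUnit_map (Matrix.toLinAlgEquiv' (n := Fin n) (R := K))).1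
      (h5.isUnit ⟨x, hx, rfl⟩ fun e => h0 ((map_eq_zero_iff _ (Matrix.toLinAlgEquiv' (n := Fin n) (R := K)).injective).1 e))
  · rw [pow_one, Nat.card_fun, Nat.card_fin] at a1
    rw [mul_comm, pow_mul, a1, sq, ← Nat.card_prod]
    refine Nat.card_congr (Equiv.ofBijective (fun z => (⟨_, z.1, z.2, rfl⟩, ⟨_, star z.1, hZ.com.2.1 _ z.2, rfl⟩))
      ⟨fun x y e => Subtype.ext (L_inj hπ (Subtype.mk.inj (Prod.mk.inj e).1) (Subtype.mk.inj (Prod.mk.inj e).2)), ?_⟩)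
    rintro ⟨⟨_, x, hx, rfl⟩, _, y, hy, rfl⟩
    refine ⟨⟨ε * x + star (ε * y), add_mem (mul_mem (hZ.com.1 hε.cen) hx) (hZ.com.2.1 _ (mul_mem (hZ.com.1 hε.cen) hy))⟩,
      Prod.ext (Subtype.ext ?_) (Subtype.ext ?_)⟩ <;> simp only [h1, h2, _root_.StarMul.star_mul, _root_.map_add, _root_.map_mul, _root_.one_mul, _root_.MulZeroClass.mul_zero, _root_.add_zero, _root_.StarAddMonoid.star_add, _root_.star_star, _root_.zero_add]

end L

variable {K V : Type} [Field K] [Finite K] [AddCommGroup V] [Module K V] [Finite V] (h : HF K V)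

omit [Finite K] [Finite V] in
/-- the ring of a form is the endomorphism ring -/
def ebE : h.EB ≃+* End K V := RingEquiv.refl (End K V)

theorem card_EB [Nontrivial V] : Nat.card h.EB = Nat.card (Subring.center h.EB) ^ (finrank K V ^ 2) := by
  rw [card_center (ebE h)]
  exact card_end K V

theorem star_cen_eq [Nontrivial V] (hτ : ∀ c, h.τ c = c) : ∀ z ∈ Subring.center h.EB, star z = z := fun z hz => by
  obtain ⟨c, rfl⟩ := P5.exists_smul (ebE h) hz
  exact (Fld.star_smul_one h c).trans (by rw [hτ]; rfl)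

omit [Finite V] in
theorem four_le (hU : IsU h) : 4 ≤ Nat.card K := by
  classical
  obtain ⟨c, hc⟩ := hU.2
  have := Fintype.ofFinite K
  have h0 : c ≠ 0 := fun e => hc (by rw [e, map_zero])
  have h1 : c ≠ 1 := fun e => hc (by rw [e, map_one])
  have h2 : h.τ c ≠ 0 := (map_ne_zero _).2 h0
  have h3 : h.τ c ≠ 1 := fun e => h1 (by rw [← h.τ_τ c, e, map_one])
  rw [Nat.card_eq_fintype_card, ← Finset.card_eq_four.2 ⟨0, 1, c, h.τ c, zero_ne_one, h0.symm, h2.symm, h1.symm, h3.symm,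
    hc.symm, rfl⟩]
  exact Finset.card_le_univ _

omit [Finite V] in
theorem exists_i (hU : IsU h) (h9 : Nat.card K = 9) : ∃ d : K, d * h.τ d = 1 ∧ d * d = -1 := by
  obtain ⟨c, hc⟩ := hU.2
  have h1 : h.τ (c - h.τ c) = -(c - h.τ c) := by rw [map_sub, h.τ_τ, neg_sub]
  have h0 : c - h.τ c ≠ 0 := sub_ne_zero.2 hc.symm
  let K0 := RingHom.eqLocusField h.τ (RingHom.id K)
  have h2 : Nat.card K0 = 3 := by
    have a1 : Nat.card K0 ∣ 9 := h9 ▸ AddSubgroup.card_addSubgroup_dvd_card K0.toAddSubgroup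
    have a2 : Nat.card K0 ≠ 9 := fun e => hc (show c ∈ K0.toAddSubgroup from
      AddSubgroup.eq_top_of_card_eq K0.toAddSubgroup (e.trans h9.symm) ▸ AddSubgroup.mem_top c)
    have a3 : 1 < Nat.card K0 := Finite.one_lt_card
    have a4 := Nat.le_of_dvd (by norm_num) a1
    generalize Nat.card K0 = k at a1 a2 a3 a4
    interval_cases k <;> omega
  generalize c - h.τ c = d at h1 h0
  have := Fintype.ofFinite K0
  have := Fintype.ofFinite K
  have h3 : (d * d) ^ 3 = d * d := by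
    have a1 := FiniteField.pow_card (⟨d * d, show h.τ (d * d) = d * d by rw [map_mul, h1, neg_mul_neg]⟩ : K0)
    rw [← Nat.card_eq_fintype_card, h2] at a1
    exact congrArg Subtype.val a1
  have h4 : (9 : K) = 0 := by
    have a1 := FiniteField.cast_card_eq_zero K
    rwa [← Nat.card_eq_fintype_card, h9] at a1
  have h5 : (d - 1) * ((d + 1) * (d * d + 1)) = 0 := mul_left_cancel₀ (mul_ne_zero h0 h0) (by linear_combination h3)
  have h6 : d * d = -1 := by
    rcases mul_eq_zero.1 h5 with a1 | a1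
    · rw [sub_eq_zero.1 a1, map_one] at h1
      exact absurd (by linear_combination h4 - 4 * h1) (one_ne_zero (α := K))
    rcases mul_eq_zero.1 a1 with a1 | a1
    · rw [eq_neg_of_add_eq_zero_left a1, map_neg, map_one] at h1
      exact absurd (by linear_combination h4 + 4 * h1) (one_ne_zero (α := K))
    · exact eq_neg_of_add_eq_zero_left a1
  exact ⟨d, by rw [h1, mul_neg, h6, neg_neg], h6⟩

variable {h} {F : FR h.EB} {S : Subgroup (RingAut h.EB)}

/-- **Unitary groups without invariant frame.** -/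
theorem nofrU (hU : IsU h) (h3 : 3 ≤ finrank K V) (h4 : finrank K V ≤ 4 → Nat.card K ≠ 4) (hx : Cl.Ctx F S)
    (hD : ∀ D : Finset h.EB, Fr D → ¬ _root_.Cfsg.Agent.DS.Cl.Inv S D) :
    (∃ Z : Subring h.EB, ComSub Z ∧ _root_.Cfsg.Agent.DS.Cl.Inv S Z ∧ (∀ x ∈ Z, x ≠ 0 → IsUnit x) ∧ Nat.card Z = Nat.card K ^ finrank K V ∧
      finrank K V ≠ 4) ∨ (finrank K V = 3 ∧ ∃ Y, ExtD F S Y 3 ∧ Nat.card Y = 9) := by
  have : Nontrivial V := Module.nontrivial_of_finrank_pos (R := K) (by omega)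
  have hc := card_center (ebE h)
  have hK := four_le h hU
  by_cases hN : NoCom F S
  · obtain ⟨Y, ⟨a1, -, a2⟩ | ⟨a1, -, -, -, a2, a3⟩⟩ := ext hx hN (card_EB h) h3
    · exact Or.inr ⟨a1, Y, a2⟩
    · have := h4 a1.le
      obtain ⟨d, b1, b2⟩ := exists_i h hU (by omega)
      refine absurd ?_ (a3 _ (h.smul_mem_center d) ?_)
      · change (d • 1 : End K V) * d • 1 = -1
        rw [smul_mul_smul_comm, b2, mul_one, neg_smul, one_smul]
      · rw [Fld.star_smul_one]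
        change (d • 1 : End K V) * h.τ d • 1 = 1
        rw [smul_mul_smul_comm, b1, mul_one, one_smul]
  obtain ⟨Z, hZ⟩ := exists_tor hx hD hN
  have hf : IsF Z := (hZ.half (ebE h) hx).resolve_right (by omega)
  obtain ⟨m, a1, a2, -⟩ := hf.cent (ebE h) hZ.com.1
  rw [hZ.self hx (by omega)] at a2
  have := hx.ss.nontrivial
  obtain rfl : m = 1 := (Nat.pow_eq_one.1 (Nat.pow_right_injective (Finite.one_lt_card (α := Z))
    (a2.symm.trans (pow_one _).symm))).resolve_right two_ne_zero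
  rw [pow_one, Module.natCard_eq_pow_finrank (K := K)] at a1
  refine Or.inl ⟨Z, hZ.com, hZ.inv, fun x hx => hf.isUnit hx, a1.symm, fun e => ?_⟩
  obtain ⟨W, m, b1, -, -, -, b2, -, b3, -⟩ := hZ.step (ebE h) hx hf (t := 2) two_ne_zero (by rw [← a1, e, ← pow_mul])
  obtain ⟨c, b4⟩ := hU.2
  have b5 := b3.of_nt ⟨_, b1.1 (h.smul_mem_center c), fun e => b4 (H277.FC.smul_one_inj (V := V)
    ((Fld.star_smul_one h c).symm.trans e))⟩
  have b6 : 16 ≤ Nat.card K ^ 2 := by nlinarith only [hK]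
  omega

omit [Finite K] [Finite V] in
theorem alt_swap (hb : ∀ v, h.b v v = 0) (u v : V) : h.b u v = -h.b v u := by
  have h1 := hb (u + v)
  rw [h.add_left, h.add_right, h.add_right, hb, hb] at h1
  linear_combination h1

theorem sp4 (hb : ∀ v, h.b v v = 0) {W : Subring h.EB} (hW : IsF W) (hs : ∀ z ∈ W, star z = z)
    (hc : Nat.card V = Nat.card W ^ 2) {x : h.EB} (hx : x ∈ Subring.centralizer (W : Set h.EB)) (v : V) :
    ∃ w ∈ W, h.ap (x + star x) v = h.ap w v := by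
  have h1 : ∀ w ∈ W, ∀ u v, h.b u (h.ap w v) = h.b (h.ap w u) v := fun w hw u v => by rw [← h.b_star, hs w hw]
  have h2 : ∀ w ∈ W, h.b v (h.ap w v) = 0 := fun w hw => by
    by_cases h2 : (2 : K) = 0
    · obtain ⟨y, hy⟩ := Finite.surjective_of_injective (f := fun y : W => y * y) (fun y y' e => by
        by_contra a1
        have a2 := hW.isUnit (y - y').2 fun e => a1 (sub_eq_zero.1 (Subtype.ext e))
        have a3 : (y : h.EB) * y = y' * y' := congrArg Subtype.val e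
        have a4 : (2 : h.EB) = 0 := by
          rw [← map_ofNat ((ebE h).symm.toRingHom.comp (algebraMap K (End K V))) 2, h2, map_zero]
        refine a1 (sub_eq_zero.1 (Subtype.ext (a2.mul_right_eq_zero.1 ?_)))
        rw [AddSubgroupClass.coe_sub, sub_mul, mul_sub, mul_sub, hW.comm _ y'.2 _ y.2, ← a3]
        calc _ = 2 * ((y : h.EB) * y - y * y') := by rw [two_mul]; abel
          _ = 0 := by rw [a4, zero_mul]) ⟨w, hw⟩
      rw [← show (y : h.EB) * y = w from congrArg Subtype.val hy, h.ap_mul, h1 _ y.2, hb]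
    · have a1 := h1 w hw v v
      rw [alt_swap hb (h.ap w v)] at a1
      exact (mul_eq_zero.1 (by linear_combination a1)).resolve_left h2
  by_contra hcon
  push Not at hcon
  have h0 : v ≠ 0 := fun e => hcon 0 (zero_mem _) (by rw [e, map_zero, map_zero])
  have h3 : ∀ w ∈ W, h.b v (h.ap w (h.ap (x + star x) v)) = 0 := fun w hw => by
    rw [h1 w hw, h.ap_add, h.add_right, h.b_star, ← h.ap_mul, ← hx w hw, h.ap_mul, ← h1 w hw (h.ap x v), alt_swap hb,
      neg_add_cancel]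
  generalize h.ap (x + star x) v = u at hcon h3
  have h4 : Function.Injective fun p : W × W => h.ap p.1 v + h.ap p.2 u := by
    rintro ⟨a, b⟩ ⟨a', b'⟩ e
    have a1 : h.ap (b - b') u = h.ap (a' - a) v := by
      rw [h.ap_sub, h.ap_sub, sub_eq_sub_iff_add_eq_add, add_comm]
      exact e
    have a2 : (b : h.EB) - b' = 0 := by
      by_contra a2
      obtain ⟨y, hy, a3⟩ := hW.inv _ (b - b').2 a2
      refine hcon (y * (a' - a)) (mul_mem hy (a' - a).2) ?_
      rw [h.ap_mul, ← a1, ← h.ap_mul, show y * ((b : h.EB) - b') = 1 from (hW.comm _ hy _ (b - b').2).trans a3, h.ap_one]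
    have a3 : (a' : h.EB) - a = 0 := by
      by_contra a3
      obtain ⟨y, hy, a4⟩ := hW.inv _ (a' - a).2 a3
      refine h0 ?_
      rw [← h.ap_one v, ← show y * ((a' : h.EB) - a) = 1 from (hW.comm _ hy _ (a' - a).2).trans a4, h.ap_mul, ← a1, a2]
      exact map_zero (h.ap y)
    exact Prod.ext (Subtype.ext (sub_eq_zero.1 a3).symm) (Subtype.ext (sub_eq_zero.1 a2))
  refine h0 (h.nondeg v fun y => ?_)
  obtain ⟨⟨a, b⟩, rfl⟩ := (h4.bijective_of_nat_card_le (by rw [hc, Nat.card_prod, sq])).2 y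
  rw [alt_swap hb, h.add_right, h2 _ a.2, h3 _ b.2, add_zero, neg_zero]

theorem sp6 (hS : IsSp h F) (h6 : finrank K V = 6) (h2 : Nat.card K = 2) (hx : Cl.Ctx F S) {W : Subring h.EB}
    (hW : ComSub W) (hI : _root_.Cfsg.Agent.DS.Cl.Inv S W) (h4 : Nat.card W = 4) (hnt : ∃ z ∈ W, star z ≠ z) : False := by
  classical
  obtain ⟨hτ, hb, hL⟩ := hS
  have : Nontrivial V := Module.nontrivial_of_finrank_pos (R := K) (by omega)
  have := hx.ss.nontrivial
  obtain ⟨ω, hω, h1⟩ := hnt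
  have hK : ∀ c : K, c ≠ 0 → c = 1 := fun c hc => by
    obtain ⟨y, -, hy⟩ := (Nat.card_eq_two_iff' (0 : K)).1 h2
    rw [hy c hc, hy 1 one_ne_zero]
  have h2K : (1 : K) + 1 = 0 := by
    by_contra e
    exact one_ne_zero (add_eq_left.1 (hK _ e))
  have h2A : ∀ a : h.EB, a + a = 0 := fun a => h.ap_ext fun v => by
    rw [h.ap_add, ← one_smul K (h.ap a v), ← add_smul, h2K, zero_smul]
    rfl
  have h3 : ∀ z ∈ W, z = 0 ∨ z = 1 ∨ z = ω ∨ z = star ω := fun z hz => by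
    have a0 : ω ≠ 0 := fun e => h1 (by rw [e, star_zero])
    have a1 : ω ≠ 1 := fun e => h1 (by rw [e, star_one])
    have a2 : ({0, 1, ω, star ω} : Set h.EB) = W := Set.eq_of_subset_of_ncard_le (by
      rintro _ (rfl | rfl | rfl | rfl)
      exacts [zero_mem _, one_mem _, hω, hW.2.1 _ hω]) (by
      rw [← Nat.card_coe_set_eq, show Nat.card (W : Set h.EB) = 4 from h4,
        Set.ncard_eq_four.2 ⟨0, 1, ω, star ω, zero_ne_one, a0.symm, (star_ne_zero.2 a0).symm, a1.symm,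
          fun e => a1 (by rw [← star_star ω, ← e, star_one]), h1.symm, rfl⟩])
    rwa [← SetLike.mem_coe, ← a2] at hz
  have h5 : ω + star ω = 1 := by
    rcases h3 _ (add_mem hω (hW.2.1 _ hω)) with e | e | e | e
    · exact absurd (add_left_cancel (e.trans (h2A ω).symm)) h1
    · exact e
    · exact absurd (by rw [star_eq_zero.1 (add_eq_left.1 e), star_zero]) h1
    · exact absurd (by rw [add_eq_right.1 e, star_zero]) h1
  let F' : FR h.EB := ⟨ω, Lmin _, h5, Or.inl rfl⟩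
  have h7 := iso_le hx hL F' (fun s hs => ⟨hx.le_SAut hs, by
    have a1 : s ω + star (s ω) = 1 := by rw [← hx.le_SAut hs, ← map_add, h5, map_one]
    change s ω - ω ∈ Lmin _
    rcases h3 _ (hI s hs ω hω) with e | e | e | e <;> rw [e] at a1 ⊢
    · simp at a1
    · rw [star_one, h2A] at a1
      exact absurd a1 zero_ne_one
    · rw [sub_self]
      exact zero_mem _
    · exact ⟨star ω, by rw [star_star]⟩⟩) fun hs => by
      obtain ⟨n, a1, a2⟩ := solv hx.ss F' hs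
      rw [card_EB, h6] at a1
      obtain rfl : 6 = n := Nat.pow_left_injective two_ne_zero (Nat.pow_right_injective Finite.one_lt_card a1)
      unfold Cs at a2
      omega
  have h8 : ∀ u v, h.b u v = h.b v u := fun u v => by
    rw [alt_swap hb]
    linear_combination (-h.b v u) * h2K
  have h9 : ∀ x v, h.b (x + v) (h.ap ω (x + v)) = h.b x (h.ap ω x) + h.b v (h.ap ω v) + h.b v x := fun x v => by
    have a1 : h.b v x = h.b v (h.ap ω x) + h.b x (h.ap ω v) := by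
      rw [h8 x, ← h.b_star, ← h.add_right, ← h.ap_add, h5, h.ap_one]
    rw [map_add, h.add_left, h.add_right, h.add_right, a1]
    ring
  have h10 : ∀ v, v ≠ 0 → h.b v (h.ap ω v) = 1 := fun v hv => by
    obtain ⟨x, a1⟩ := h.exists_ne hv
    have a2 : ∀ y, h.ap (star (1 + h.eb (h.ro v v))) y = y + h.b y v • v := fun y => by
      rw [star_add, star_one, h.ap_add, h.ap_one, ap_star_ro, hτ, h8]
    have a3 : (1 + h.eb (h.ro v v)) * star (1 + h.eb (h.ro v v)) = 1 := h.ap_ext fun y => by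
      rw [h.ap_mul, a2, h.ap_add, h.ap_one, h.ap_one, h.ap_eb, h.ro_apply, h.add_left, h.smul_left, hb, mul_zero, add_zero,
        add_assoc, ← add_smul, ← one_mul (h.b y v), ← add_mul, h2K, zero_mul, zero_smul, add_zero]
    obtain ⟨a, a4⟩ := (h7 (mem_Iso_max hL (u := mkU _ a3) a3)).2
    have a5 := congrArg (fun c => h.b x (h.ap c x)) a4
    simp only [mkU_val, h.ap_sub, h.sub_right, h.ap_mul] at a5
    rw [← h.star_b, a2, hK _ a1, one_smul, h.b_star, h8 (h.ap a x), h9, h8 v x, hK _ a1] at a5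
    have a6 : F'.l = ω := rfl
    rw [a6] at a5
    linear_combination a5 - h2K
  obtain ⟨v, hv⟩ := exists_ne (0 : V)
  obtain ⟨x, a1, a2⟩ : ∃ x ∈ LinearMap.ker (h.lin v), x ∉ K ∙ v := by
    by_contra a1
    push Not at a1
    have a2 := Submodule.finrank_mono (show LinearMap.ker (h.lin v) ≤ K ∙ v from a1)
    have a3 := (h.lin v).finrank_range_add_finrank_ker
    have a4 := (LinearMap.range (h.lin v)).finrank_le
    rw [finrank_span_singleton hv] at a2
    rw [finrank_self] at a4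
    omega
  have a3 := h9 x v
  rw [h10 _ fun e => a2 (by rw [eq_neg_of_add_eq_zero_left e]; exact neg_mem (Submodule.mem_span_singleton_self v)),
    h10 v hv, h10 x fun e => a2 (e ▸ zero_mem _), h2K, h8, show h.b x v = 0 from a1, add_zero] at a3
  exact one_ne_zero a3

theorem nofrB (hτ : ∀ c, h.τ c = c) (h4 : 4 ≤ finrank K V) (h5 : finrank K V = 4 → 4 ≤ Nat.card K)
    (h6 : finrank K V ≤ 6 → IsSp h F) (hx : Cl.Ctx F S) (hD : ∀ D : Finset h.EB, Fr D → ¬ _root_.Cfsg.Agent.DS.Cl.Inv S D) : False := by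
  have : Nontrivial V := Module.nontrivial_of_finrank_pos (R := K) (by omega)
  have hc := card_center (ebE h)
  have hs := star_cen_eq h hτ
  by_cases hN : NoCom F S
  · obtain ⟨Y, ⟨a1, -⟩ | ⟨a1, -, -, -, a2 | ⟨-, z, hz, a2⟩, -⟩⟩ := ext hx hN (card_EB h) (by omega)
    · omega
    · have := h5 a1
      omega
    · exact a2 (hs z hz)
  obtain ⟨Z, hZ⟩ := exists_tor hx hD hN
  have hf : IsF Z := (hZ.half (ebE h) hx).resolve_right (by omega)
  obtain ⟨t, ht, a1⟩ := hf.quad (ebE h) hZ.com.1 hZ.com.2.1 hs hZ.nt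
  obtain ⟨W, m, b1, b2, b3, b4, b5, b6, b7, b8⟩ := hZ.step (ebE h) hx hf ht a1
  have hK : 2 ≤ Nat.card K := Finite.one_lt_card
  have b9 : 4 ≤ Nat.card K ^ 2 := by nlinarith only [hK]
  rcases b7 with rfl | ⟨rfl, b7⟩ | ⟨rfl, b7 | b7⟩ | b7
  · omega
  · have c1 : 16 ≤ Nat.card K ^ 2 := by have := h5 b5; nlinarith only [this]
    have c2 := h6 (by omega)
    rcases b7 with b7 | b7 | ⟨b7, c3 | ⟨x, c3, c4⟩⟩
    · omega
    · omega
    · exact c3 c2.2.2
    · push Not at b7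
      exact c4 (b8 _ (add_mem c3 (star_centralizer b1.2.1 x c3)) (sp4 c2.2.1 b3 b7 b6 c3))
  · omega
  · exact sp6 (h6 (by omega)) b5 (by nlinarith only [b7]) hx b1 b2 (b4.trans b7.1) b7.2
  · omega

/-- **Symplectic groups have an invariant frame.** -/
theorem nofrSp (hS : IsSp h F) (h4 : 4 ≤ finrank K V) (h5 : finrank K V = 4 → 4 ≤ Nat.card K) (hx : Cl.Ctx F S)
    (hD : ∀ D : Finset h.EB, Fr D → ¬ _root_.Cfsg.Agent.DS.Cl.Inv S D) : False :=
  nofrB hS.1 h4 h5 (fun _ => hS) hx hD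

/-- **Orthogonal groups have an invariant frame.** -/
theorem nofrO {Q : QuadraticForm K V} (hO : IsO h F Q) (h7 : 7 ≤ finrank K V) (hx : Cl.Ctx F S)
    (hD : ∀ D : Finset h.EB, Fr D → ¬ _root_.Cfsg.Agent.DS.Cl.Inv S D) : False :=
  nofrB hO.1 (by omega) (by omega) (by omega) hx hD

end Cfsg.Agent.SB.C2
end

private theorem dce_e136f0e1f68b : _root_.True := by
  try have : _root_.True := by simp only [_root_.Cfsg.Agent.DS.Cl.mkU.congr_simp]
  exact _root_.True.intro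
end
end
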